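/-
Covering families in a category satisfying Giraud's axioms.
-/
import Mathlib.CategoryTheory.Limits.VanKampen
import Mathlib.CategoryTheory.Limits.Shapes.Equalizers
import Mathlib.CategoryTheory.EffectiveEpi.Comp
import Groth.Prelude.Def_SGA4a

universe w v u

open CategoryTheory CategoryTheory.Limits

namespace Groth.Agent.GiraudLib

/-- Giraud's axioms together with a small detecting family. -/
structure Axioms (E : Type v) [Category.{u} E] [HasFiniteLimits E] where
  hb : SGA4.HasDisjointUniversalCoproducts.{v, u} E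
  hc : ∀ (R A : E) (p₁ p₂ : R ⟶ A),
    SGA4.IsEquivRel p₁ p₂ → SGA4.IsEffectiveUniversalEquivRel p₁ p₂
  ι : Type u
  g : ι → E
  detect : (ObjectProperty.ofObj g).IsDetecting

variable {E : Type v} [Category.{u} E] [HasFiniteLimits E]

/-- A family covers if it does not factor through a proper subobject. -/
def Covers {α : Type w} {B : E} {A : α → E} (f : ∀ a, A a ⟶ B) : Prop :=
  ∀ ⦃B' : E⦄ (m : B' ⟶ B) [Mono m], (∀ a, ∃ t, t ≫ m = f a) → IsIso m

theorem Covers.lift {α : Type w} {B : E} {A : α → E} {f : ∀ a, A a ⟶ B} (hf : Covers f)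
    {Y Y' : E} (m : Y' ⟶ Y) [Mono m] (h : B ⟶ Y) (H : ∀ a, ∃ t, t ≫ m = f a ≫ h) :
    ∃ t, t ≫ m = h := by
  haveI : IsIso (pullback.fst h m) := hf (pullback.fst h m) fun a => by
    obtain ⟨t, ht⟩ := H a
    exact ⟨pullback.lift (f a) t ht.symm, pullback.lift_fst _ _ _⟩
  exact ⟨inv (pullback.fst h m) ≫ pullback.snd h m, by simp [← pullback.condition]⟩

theorem Covers.hom_ext {α : Type w} {B : E} {A : α → E} {f : ∀ a, A a ⟶ B} (hf : Covers f)
    {Y : E} (a b : B ⟶ Y) (H : ∀ i, f i ≫ a = f i ≫ b) : a = b := by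
  haveI : IsIso (equalizer.ι a b) :=
    hf (equalizer.ι a b) fun i => ⟨equalizer.lift (f i) (H i), equalizer.lift_ι _ _⟩
  exact (cancel_epi (equalizer.ι a b)).1 (equalizer.condition a b)

theorem Covers.bind {α : Type w} {B : E} {A : α → E} {f : ∀ a, A a ⟶ B} (hf : Covers f)
    {β : α → Type w} {A' : ∀ a, β a → E} {f' : ∀ a b, A' a b ⟶ A a} (hf' : ∀ a, Covers (f' a))
    {γ : Type*} {D : γ → E} {k : ∀ c, D c ⟶ B}
    (H : ∀ a b, ∃ (c : γ) (t : A' a b ⟶ D c), t ≫ k c = f' a b ≫ f a) :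
    Covers k := by
  intro B' m _ hm
  refine hf m fun a => (hf' a).lift m (f a) fun b => ?_
  obtain ⟨c, t, ht⟩ := H a b
  obtain ⟨s, hs⟩ := hm c
  exact ⟨t ≫ s, by rw [Category.assoc, hs, ht]⟩

theorem Covers.of_forall_factor {α : Type w} {B : E} {A : α → E} {f : ∀ a, A a ⟶ B}
    (hf : Covers f) {γ : Type*} {D : γ → E} {k : ∀ c, D c ⟶ B}
    (H : ∀ a, ∃ (c : γ) (t : A a ⟶ D c), t ≫ k c = f a) : Covers k := by
  intro B' m _ hm
  refine hf m fun a => ?_
  obtain ⟨c, t, ht⟩ := H a
  obtain ⟨s, hs⟩ := hm c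
  exact ⟨t ≫ s, by rw [Category.assoc, hs, ht]⟩

theorem covers_singleton {A B : E} (p : A ⟶ B) [EffectiveEpi p] :
    Covers (fun _ : PUnit.{w + 1} => p) := by
  intro B' m _ hm
  obtain ⟨t, ht⟩ := hm ⟨⟩
  let d : B ⟶ B' := EffectiveEpi.desc p t fun g₁ g₂ h => by
    rw [← cancel_mono m]
    simp [ht, h]
  refine ⟨d, ?_, ?_⟩
  · rw [← cancel_mono m, Category.assoc, Category.id_comp]
    have : d ≫ m = 𝟙 B := by
      rw [← cancel_epi p, EffectiveEpi.fac_assoc, ht, Category.comp_id]
    rw [this, Category.comp_id]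
  · rw [← cancel_epi p, EffectiveEpi.fac_assoc, ht, Category.comp_id]

theorem covers_of_isColimit {α : Type u} {X : α → E} {c : Cofan X} (hc : IsColimit c) :
    Covers c.inj := by
  intro B' m _ hm
  choose t ht using hm
  have h : Cofan.IsColimit.desc hc t ≫ m = 𝟙 c.pt := by
    refine Cofan.IsColimit.hom_ext hc _ _ fun a => ?_
    simp [ht]
  exact ⟨Cofan.IsColimit.desc hc t, by
    rw [← cancel_mono m, Category.assoc, h, Category.comp_id, Category.id_comp], h⟩

namespace Axioms

variable (G : Axioms E)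

/-- Generalized points at generators cover every object. -/
theorem covers_points (B : E) :
    Covers (fun p : Σ i, (G.g i ⟶ B) => p.2) := by
  intro B' m _ hm
  refine G.detect m fun X hX h => ?_
  obtain ⟨i, rfl⟩ := (ObjectProperty.ofObj_iff _ _).1 hX
  obtain ⟨t, ht⟩ := hm ⟨i, h⟩
  exact ⟨t, ht, fun t' ht' => by rw [← cancel_mono m, ht, ht']⟩

theorem hom_ext {B Y : E} (a b : B ⟶ Y) (H : ∀ i (p : G.g i ⟶ B), p ≫ a = p ≫ b) : a = b :=
  (G.covers_points B).hom_ext a b fun p => H p.1 p.2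

theorem lift {B Y Y' : E} (m : Y' ⟶ Y) [Mono m] (h : B ⟶ Y)
    (H : ∀ i (p : G.g i ⟶ B), ∃ t, t ≫ m = p ≫ h) : ∃ t, t ≫ m = h :=
  (G.covers_points B).lift m h fun p => H p.1 p.2

theorem isEquivRel_kernelPair {A B : E} (d : A ⟶ B) :
    SGA4.IsEquivRel (pullback.fst d d) (pullback.snd d d) := by
  intro T
  refine ⟨fun a b h => pullback.hom_ext (congrArg Prod.fst h) (congrArg Prod.snd h),
    fun a => ⟨pullback.lift a a rfl, pullback.lift_fst _ _ _, pullback.lift_snd _ _ _⟩, ?_, ?_⟩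
  · rintro a b ⟨f, rfl, rfl⟩
    exact ⟨pullback.lift _ _ ((Category.assoc _ _ _).trans
      ((f ≫= pullback.condition.symm).trans (Category.assoc _ _ _).symm)),
      pullback.lift_fst _ _ _, pullback.lift_snd _ _ _⟩
  · rintro a b c ⟨f, rfl, rfl⟩ ⟨f', h, rfl⟩
    refine ⟨pullback.lift (f ≫ pullback.fst d d) (f' ≫ pullback.snd d d) ?_,
      pullback.lift_fst _ _ _, pullback.lift_snd _ _ _⟩
    rw [Category.assoc, pullback.condition, ← Category.assoc, ← h, Category.assoc,
      pullback.condition, Category.assoc]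

include G in
/-- Epi-mono factorisation with universally effective first part. -/
theorem exists_fac {A B : E} (d : A ⟶ B) :
    ∃ (I : E) (π : A ⟶ I) (m : I ⟶ B), Mono m ∧ π ≫ m = d ∧
      (∀ (B' : E) (g : B' ⟶ I), EffectiveEpi (pullback.snd π g)) ∧ EffectiveEpi π := by
  obtain ⟨I, π, hpb, hpo, huniv⟩ := G.hc _ _ _ _ (isEquivRel_kernelPair d)
  let m : I ⟶ B := hpo.desc d d pullback.condition
  have hm : π ≫ m = d := hpo.inl_desc _ _ _
  haveI : Mono m := by
    refine ⟨fun {T} a b h => G.hom_ext a b fun i p => ?_⟩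
    -- lift both composites along `π` on a common cover
    haveI := huniv (G.g i) (p ≫ a)
    haveI := huniv _ (pullback.snd π (p ≫ a) ≫ p ≫ b)
    rw [← cancel_epi (pullback.snd π (p ≫ a)),
      ← cancel_epi (pullback.snd π (pullback.snd π (p ≫ a) ≫ p ≫ b))]
    let x := pullback.snd π (pullback.snd π (p ≫ a) ≫ p ≫ b) ≫ pullback.fst π (p ≫ a)
    let y := pullback.fst π (pullback.snd π (p ≫ a) ≫ p ≫ b)
    have hx : x ≫ π = pullback.snd π (pullback.snd π (p ≫ a) ≫ p ≫ b) ≫
        pullback.snd π (p ≫ a) ≫ p ≫ a := by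
      simp [x, pullback.condition]
    have hy : y ≫ π = pullback.snd π (pullback.snd π (p ≫ a) ≫ p ≫ b) ≫
        pullback.snd π (p ≫ a) ≫ p ≫ b := pullback.condition
    have hxy : x ≫ d = y ≫ d := by
      rw [← hm, reassoc_of% hx, reassoc_of% hy, h]
    refine hx.symm.trans (Eq.trans ?_ hy)
    calc x ≫ π = (pullback.lift x y hxy ≫ pullback.fst d d) ≫ π :=
          congrArg (· ≫ π) (pullback.lift_fst x y hxy).symm
      _ = (pullback.lift x y hxy ≫ pullback.snd d d) ≫ π := by simp only [Category.assoc, hpo.w]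
      _ = y ≫ π := congrArg (· ≫ π) (pullback.lift_snd x y hxy)
  have hpi : EffectiveEpi π := by
    haveI := huniv I (𝟙 I)
    have h := IsPullback.of_horiz_isIso (fst := 𝟙 A) (g := 𝟙 I) (f := π) (snd := π) ⟨by simp⟩
    rw [← h.isoPullback_hom_snd]
    infer_instance
  exact ⟨I, π, m, inferInstance, hm, huniv, hpi⟩

include G in
/-- A morphism not factoring through a proper subobject is a universal effective epimorphism. -/
theorem effectiveEpi_pullback_of_covers {A B : E} (d : A ⟶ B)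
    (hd : Covers (fun _ : PUnit.{u + 1} => d)) {B' : E} (g : B' ⟶ B) :
    EffectiveEpi (pullback.snd d g) := by
  obtain ⟨I, π, m, hmono, hm, huniv, -⟩ := G.exists_fac d
  haveI : IsIso m := hd m fun _ => ⟨π, hm⟩
  have := huniv B' (g ≫ inv m)
  let e : pullback d g ≅ pullback π (g ≫ inv m) :=
    asIso (pullback.map d g π (g ≫ inv m) (𝟙 A) (𝟙 B') (inv m)
      (by rw [← hm]; simp) (by simp))
  have he : e.hom ≫ pullback.snd π (g ≫ inv m) = pullback.snd d g :=
    (pullback.lift_snd _ _ _).trans (Category.comp_id _)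
  rw [← he]
  infer_instance

include G in
theorem effectiveEpi_of_isPullback {A B : E} {d : A ⟶ B}
    (hd : Covers (fun _ : PUnit.{u + 1} => d)) {P B' : E} {q : P ⟶ A} {r : P ⟶ B'} {g : B' ⟶ B}
    (h : IsPullback q r d g) : EffectiveEpi r := by
  haveI := G.effectiveEpi_pullback_of_covers d hd g
  rw [← h.isoPullback_hom_snd]
  infer_instance

include G in
theorem effectiveEpi_of_covers {A B : E} (d : A ⟶ B)
    (hd : Covers (fun _ : PUnit.{u + 1} => d)) : EffectiveEpi d :=
  G.effectiveEpi_of_isPullback hd (IsPullback.of_horiz_isIso (fst := 𝟙 A) (g := 𝟙 B) ⟨by simp⟩)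

include G in
theorem Covers.pullback_family {α : Type u} {B : E} {A : α → E} {f : ∀ a, A a ⟶ B}
    (hf : Covers f) {B' : E} (g : B' ⟶ B) : Covers (fun a => pullback.snd (f a) g) := by
  obtain ⟨c, hc, -, hu⟩ := G.hb α A
  let d := Cofan.IsColimit.desc hc f
  have hd : Covers (fun _ : PUnit.{u + 1} => d) :=
    hf.of_forall_factor fun a => ⟨⟨⟩, c.inj a, Cofan.IsColimit.fac hc f a⟩
  haveI := G.effectiveEpi_pullback_of_covers d hd g
  have hl : ∀ a, (pullback.fst (f a) g ≫ c.inj a) ≫ d = pullback.snd (f a) g ≫ g := fun a => by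
    rw [Category.assoc, Cofan.IsColimit.fac hc f a, pullback.condition]
  let c' : Cofan (fun a => pullback (f a) g) :=
    Cofan.mk (pullback d g) fun a => pullback.lift (pullback.fst (f a) g ≫ c.inj a) _ (hl a)
  obtain ⟨hc'⟩ := hu c' (Discrete.natTrans fun a => pullback.fst (f a.as) g) (pullback.fst d g)
    (by ext ⟨a⟩; exact (pullback.lift_fst _ _ _).symm) (NatTrans.Equifibered.of_discrete _)
    fun ⟨a⟩ => by
      refine IsPullback.of_right ?_ (pullback.lift_fst _ _ _) (IsPullback.of_hasPullback d g).flip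
      have : c'.ι.app ⟨a⟩ ≫ pullback.snd d g = pullback.snd (f a) g := pullback.lift_snd _ _ _
      rw [this]
      have h := (IsPullback.of_hasPullback (f a) g).flip
      exact (congrArg (fun t => IsPullback (pullback.snd (f a) g) (pullback.fst (f a) g) g t)
        (Cofan.IsColimit.fac hc f a).symm).mp h
  refine (covers_singleton (pullback.snd d g)).bind (fun _ => covers_of_isColimit hc')
    (fun _ a => ⟨a, 𝟙 _, ?_⟩)
  simp only [Category.id_comp]
  exact (pullback.lift_snd _ _ _).symm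

end Axioms

end Groth.Agent.GiraudLib
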