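/-
Giraud's axioms are inherited along a jointly conservative family of exact functors.
-/
import Groth.Agent.GiraudLib.Cover
import Mathlib.CategoryTheory.Limits.Preserves.Shapes.Products
import Mathlib.CategoryTheory.Limits.Preserves.Shapes.Pullbacks
import Mathlib.CategoryTheory.Limits.Constructions.EpiMono

universe w w' v' v u

open CategoryTheory CategoryTheory.Limits

namespace Groth.Agent.GiraudLib

section Lemmas

variable {C : Type v} [Category.{u} C] [HasFiniteLimits C]

theorem isPushout_of_effectiveEpi {A B : C} (f : A ⟶ B) [EffectiveEpi f] {K : C} {p q : K ⟶ A}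
    (h : IsPullback p q f f) : IsPushout p q f f := by
  have key : ∀ s : PushoutCocone p q, s.inl = s.inr := fun s => by
    have := h.lift (𝟙 A) (𝟙 A) rfl ≫= s.condition
    simpa using this
  have hg : ∀ (s : PushoutCocone p q) {Z : C} (g₁ g₂ : Z ⟶ A), g₁ ≫ f = g₂ ≫ f →
      g₁ ≫ s.inl = g₂ ≫ s.inl := fun s Z g₁ g₂ e => by
    have := h.lift g₁ g₂ e ≫= s.condition
    simpa [key s] using this
  exact ⟨⟨h.w⟩, ⟨PushoutCocone.IsColimit.mk _ (fun s => EffectiveEpi.desc f s.inl (hg s))
    (fun s => EffectiveEpi.fac f _ _)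
    (fun s => (EffectiveEpi.fac f _ _).trans (key s))
    (fun s m h₁ _ => EffectiveEpi.uniq f _ (hg s) m h₁)⟩⟩

theorem effectiveEpi_of_isPushout {A B K : C} {f : A ⟶ B} {p q : K ⟶ A}
    (hp : IsPushout p q f f) : EffectiveEpi f :=
  ⟨⟨{ desc := fun e h => hp.desc e e (h p q hp.w)
      fac := fun e h => hp.inl_desc _ _ _
      uniq := fun e h m hm => hp.hom_ext (hm.trans (hp.inl_desc _ _ _).symm)
        (hm.trans (hp.inr_desc _ _ _).symm) }⟩⟩

theorem isEquivRel_map {D : Type w} [Category.{u} D] [HasFiniteLimits D] (Φ : C ⥤ D)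
    [PreservesFiniteLimits Φ] {R A : C} {p q : R ⟶ A} (h : SGA4.IsEquivRel p q) :
    SGA4.IsEquivRel (Φ.map p) (Φ.map q) := by
  haveI : Mono (prod.lift p q) := ⟨fun a b e => (h _).1 (Prod.ext
    (by simpa [prod.lift_fst] using e =≫ prod.fst) (by simpa [prod.lift_snd] using e =≫ prod.snd))⟩
  obtain ⟨s, hs₁, hs₂⟩ := (h A).2.refl (𝟙 A)
  obtain ⟨σ, hσ₁, hσ₂⟩ := (h R).2.symm ⟨𝟙 R, Category.id_comp p, Category.id_comp q⟩
  obtain ⟨τ, hτ₁, hτ₂⟩ := (h (pullback q p)).2.trans
    ⟨pullback.fst q p, rfl, rfl⟩ ⟨pullback.snd q p, pullback.condition.symm, rfl⟩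
  have hpb := (IsPullback.of_hasPullback q p).map Φ
  intro T
  refine ⟨fun a b e => ?_, fun a => ⟨a ≫ Φ.map s, ?_, ?_⟩, ?_, ?_⟩
  · rw [← cancel_mono (Φ.map (prod.lift p q)), ← cancel_mono (prodComparison Φ A A)]
    refine prod.hom_ext ?_ ?_
    · simpa [← Functor.map_comp, prod.lift_fst] using congrArg Prod.fst e
    · simpa [← Functor.map_comp, prod.lift_snd] using congrArg Prod.snd e
  · rw [Category.assoc, ← Φ.map_comp, hs₁, Φ.map_id, Category.comp_id]
  · rw [Category.assoc, ← Φ.map_comp, hs₂, Φ.map_id, Category.comp_id]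
  · rintro a b ⟨f, rfl, rfl⟩
    exact ⟨f ≫ Φ.map σ, by rw [Category.assoc, ← Φ.map_comp, hσ₁],
      by rw [Category.assoc, ← Φ.map_comp, hσ₂]⟩
  · rintro a b c ⟨f, rfl, rfl⟩ ⟨g, hg, rfl⟩
    refine ⟨hpb.lift f g hg.symm ≫ Φ.map τ, ?_, ?_⟩
    · rw [Category.assoc, ← Φ.map_comp, hτ₁, Φ.map_comp, hpb.lift_fst_assoc]
    · rw [Category.assoc, ← Φ.map_comp, hτ₂, Φ.map_comp, hpb.lift_snd_assoc]

end Lemmas

section Family

variable {X : Type v} [Category.{u} X] [HasFiniteLimits X] [HasColimitsOfSize.{u, u} X]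
  {κ : Type w'} {E : κ → Type v'} [∀ k, Category.{u} (E k)] [∀ k, HasFiniteLimits (E k)]
  (Φ : ∀ k, X ⥤ E k) [∀ k, PreservesFiniteLimits (Φ k)]
  [∀ k, PreservesColimitsOfSize.{u, u} (Φ k)]
  (hΦ : ∀ ⦃Y Z : X⦄ (f : Y ⟶ Z), (∀ k, IsIso ((Φ k).map f)) → IsIso f)

include hΦ in
theorem nonempty_isColimit_of_jointly {K : Type u} [SmallCategory K] {F : K ⥤ X} (c : Cocone F)
    (h : ∀ k, Nonempty (IsColimit ((Φ k).mapCocone c))) : Nonempty (IsColimit c) := by
  haveI : IsIso (colimit.desc F c) := hΦ _ fun k => by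
    let e := (isColimitOfPreserves (Φ k) (colimit.isColimit F)).coconePointUniqueUpToIso (h k).some
    have : (Φ k).map (colimit.desc F c) = e.hom := by
      refine (isColimitOfPreserves (Φ k) (colimit.isColimit F)).hom_ext fun j => ?_
      refine Eq.trans ?_ (IsColimit.comp_coconePointUniqueUpToIso_hom _ (h k).some j).symm
      change (Φ k).map _ ≫ (Φ k).map _ = (Φ k).map _
      rw [← Functor.map_comp]
      exact congrArg (Φ k).map (colimit.ι_desc c j)
    rw [this]
    infer_instance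
  exact ⟨(colimit.isColimit F).ofIsoColimit (Cocone.ext (asIso (colimit.desc F c)))⟩

include hΦ in
theorem isPullback_of_jointly {P A B C : X} {p : P ⟶ A} {q : P ⟶ B} {f : A ⟶ C} {g : B ⟶ C}
    (w : p ≫ f = q ≫ g)
    (h : ∀ k, IsPullback ((Φ k).map p) ((Φ k).map q) ((Φ k).map f) ((Φ k).map g)) :
    IsPullback p q f g := by
  haveI : IsIso (pullback.lift p q w) := hΦ _ fun k => by
    have hk := (IsPullback.of_hasPullback f g).map (Φ k)
    have : (Φ k).map (pullback.lift p q w) = ((h k).isoIsPullback _ _ hk).hom := by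
      refine hk.hom_ext ?_ ?_
      · simp [← Functor.map_comp, pullback.lift_fst]
      · simp [← Functor.map_comp, pullback.lift_snd]
    rw [this]
    infer_instance
  exact IsPullback.of_iso_pullback ⟨w⟩ (asIso (pullback.lift p q w)) (pullback.lift_fst _ _ _)
    (pullback.lift_snd _ _ _)

include hΦ in
theorem isPushout_of_jointly [HasPushouts X] [∀ k, PreservesColimitsOfShape WalkingSpan (Φ k)]
    {A B C P : X} {p : A ⟶ B} {q : A ⟶ C} {f : B ⟶ P} {g : C ⟶ P} (w : p ≫ f = q ≫ g)
    (h : ∀ k, IsPushout ((Φ k).map p) ((Φ k).map q) ((Φ k).map f) ((Φ k).map g)) :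
    IsPushout p q f g := by
  haveI : IsIso (pushout.desc f g w) := hΦ _ fun k => by
    have hk := (IsPushout.of_hasPushout p q).map (Φ k)
    have : (Φ k).map (pushout.desc f g w) = (hk.isoIsPushout _ _ (h k)).hom := by
      refine hk.hom_ext ?_ ?_
      · simp [← Functor.map_comp, pushout.inl_desc]
      · simp [← Functor.map_comp, pushout.inr_desc]
    rw [this]
    infer_instance
  exact IsPushout.of_iso (IsPushout.of_hasPushout p q) (Iso.refl _) (Iso.refl _) (Iso.refl _)
    (asIso (pushout.desc f g w)) (by simp) (by simp) (by simp [pushout.inl_desc])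
    (by simp [pushout.inr_desc])

include hΦ in
theorem hasDisjointUniversalCoproducts_of_jointly
    (hb : ∀ k, SGA4.HasDisjointUniversalCoproducts.{v', u} (E k)) :
    SGA4.HasDisjointUniversalCoproducts.{v, u} X := by
  intro ι A
  let c : Cofan A := colimit.cocone (Discrete.functor A)
  let hc : IsColimit c := colimit.isColimit _
  let ck : ∀ k, Cofan (fun a => (Φ k).obj (A a)) := fun k =>
    Cofan.mk ((Φ k).obj c.pt) fun a => (Φ k).map (c.inj a)
  have hck : ∀ k, IsColimit (ck k) := fun k =>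
    isColimitCofanMkObjOfIsColimit (Φ k) A c.inj
      (hc.ofIsoColimit (Cofan.ext (Iso.refl _) fun _ => Category.comp_id _))
  have huni : ∀ k, IsUniversalColimit (ck k) := fun k => by
    obtain ⟨d, hd, -, hu⟩ := hb k ι fun a => (Φ k).obj (A a)
    exact hu.of_iso (hd.uniqueUpToIso (hck k))
  have hdis : ∀ k, CoproductDisjoint fun a => (Φ k).obj (A a) := fun k => by
    obtain ⟨d, -, h, -⟩ := hb k ι fun a => (Φ k).obj (A a)
    exact h
  haveI : ∀ a, Mono (c.inj a) := fun a => by
    have h := isPullback_of_jointly Φ hΦ (rfl : 𝟙 (A a) ≫ c.inj a = 𝟙 (A a) ≫ c.inj a)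
      fun k => by
        haveI : Mono ((Φ k).map (c.inj a)) := (hdis k).mono_inj (hck k) a
        rw [CategoryTheory.Functor.map_id]
        exact IsKernelPair.id_of_mono _
    exact PullbackCone.mono_of_isLimitMkIdId _ h.isLimit
  haveI : HasColimitsOfShape (Discrete PEmpty.{1}) X :=
    hasColimitsOfShape_of_equivalence (Discrete.equivalence (Equiv.equivOfIsEmpty PEmpty.{u + 1} PEmpty.{1}))
  refine ⟨c, hc, CoproductDisjoint.of_cofan hc
    (fun {i j} _ => (IsPullback.of_hasPullback (c.inj i) (c.inj j)).cone)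
    (fun {i j} _ => (IsPullback.of_hasPullback (c.inj i) (c.inj j)).isLimit) ?_, ?_⟩
  · intro i j hij
    have hI' : IsIso (initial.to (pullback (c.inj i) (c.inj j))) := hΦ _ fun k => by
      haveI : PreservesColimitsOfShape (Discrete PEmpty.{1}) (Φ k) :=
        preservesColimitsOfShape_of_equiv
          (Discrete.equivalence (Equiv.equivOfIsEmpty PEmpty.{u + 1} PEmpty.{1})) _
      obtain ⟨hI⟩ := (hdis k).nonempty_isInitial_of_ne (hck k) hij _
        ((IsPullback.of_hasPullback (c.inj i) (c.inj j)).map (Φ k)).isLimit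
      let e' := (initialIsInitial.isInitialObj (Φ k) _).uniqueUpToIso hI
      have he' : (Φ k).map (initial.to (pullback (c.inj i) (c.inj j))) = e'.hom :=
        (initialIsInitial.isInitialObj (Φ k) _).hom_ext _ _
      rw [he']
      exact e'.isIso_hom
    exact initialIsInitial.ofIso (@asIso _ _ _ _ _ hI')
  · intro F' c' α f h _ H
    refine nonempty_isColimit_of_jointly Φ hΦ c' fun k => ?_
    let α' : F' ⋙ Φ k ⟶ Discrete.functor fun a => (Φ k).obj (A a) :=
      Discrete.natTrans fun a => (Φ k).map (α.app a)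
    exact huni k ((Φ k).mapCocone c') α' ((Φ k).map f)
      (by
        ext ⟨a⟩
        have := congrArg (Φ k).map (NatTrans.congr_app h ⟨a⟩)
        simp only [NatTrans.comp_app, Functor.map_comp] at this
        exact this)
      (NatTrans.Equifibered.of_discrete _) fun a => (H a).map (Φ k)

include hΦ in
theorem isEffectiveUniversalEquivRel_of_jointly
    (hc : ∀ k (R A : E k) (p q : R ⟶ A),
      SGA4.IsEquivRel p q → SGA4.IsEffectiveUniversalEquivRel p q)
    (R A : X) (p q : R ⟶ A) (h : SGA4.IsEquivRel p q) :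
    SGA4.IsEffectiveUniversalEquivRel p q := by
  haveI : HasPushouts X := by
    haveI : HasColimitsOfSize.{0, 0} X := hasColimitsOfSizeShrink.{0, 0, u, u} X
    infer_instance
  haveI : ∀ k, PreservesColimitsOfShape WalkingSpan (Φ k) := fun k => by
    haveI : PreservesColimitsOfSize.{0, 0} (Φ k) :=
      preservesColimitsOfSize_shrink.{0, u, 0, u} (Φ k)
    infer_instance
  obtain ⟨s, hs₁, hs₂⟩ := (h A).2.refl (𝟙 A)
  have hlr : (pushout.inl p q : A ⟶ _) = pushout.inr p q := by
    have := s ≫= (pushout.condition (f := p) (g := q))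
    simpa only [reassoc_of% hs₁, reassoc_of% hs₂] using this
  let π : A ⟶ pushout p q := pushout.inl p q
  have hpo : IsPushout p q π π := by
    have := IsPushout.of_hasPushout p q
    rwa [← hlr] at this
  have hk : ∀ k, SGA4.IsEffectiveUniversalEquivRel ((Φ k).map p) ((Φ k).map q) := fun k =>
    hc k _ _ _ _ (isEquivRel_map (Φ k) h)
  choose B π' hpb' hpo' huniv' using hk
  let e : ∀ k, B k ≅ (Φ k).obj (pushout p q) := fun k => (hpo' k).isoIsPushout _ _ (hpo.map (Φ k))
  have he : ∀ k, π' k ≫ (e k).hom = (Φ k).map π := fun k =>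
    IsPushout.inl_isoIsPushout_hom _ _ (hpo' k) (hpo.map (Φ k))
  have hpb : IsPullback p q π π := isPullback_of_jointly Φ hΦ hpo.w fun k =>
    (hpb' k).of_iso (Iso.refl _) (Iso.refl _) (Iso.refl _) (e k) (by simp) (by simp)
      (by simpa using he k) (by simpa using he k)
  refine ⟨_, π, hpb, hpo, fun B' g => ?_⟩
  refine effectiveEpi_of_isPushout (isPushout_of_jointly Φ hΦ
    (pullback.condition (f := pullback.snd π g) (g := pullback.snd π g)) fun k => ?_)
  have hsq := (IsPullback.of_hasPullback π g).map (Φ k)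
  have hsq' : IsPullback ((Φ k).map (pullback.fst π g)) ((Φ k).map (pullback.snd π g)) (π' k)
      ((Φ k).map g ≫ (e k).inv) :=
    hsq.of_iso (Iso.refl _) (Iso.refl _) (Iso.refl _) (e k).symm (by simp) (by simp)
      (by simp [← he k]) (by simp)
  haveI : EffectiveEpi ((Φ k).map (pullback.snd π g)) := by
    haveI := huniv' k _ ((Φ k).map g ≫ (e k).inv)
    rw [← hsq'.isoPullback_hom_snd]
    infer_instance
  exact isPushout_of_effectiveEpi _ ((IsPullback.of_hasPullback _ _).map (Φ k))

end Family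

end Groth.Agent.GiraudLib
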