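/-
The site of generators and the equivalence of Giraud's theorem.
-/
import Groth.Agent.GiraudLib.Cover
import Mathlib.CategoryTheory.Sites.Sheaf
import Mathlib.CategoryTheory.Yoneda

universe w v u

open CategoryTheory CategoryTheory.Limits Opposite

namespace Groth.Agent.GiraudLib

variable {E : Type v} [Category.{u} E] [HasFiniteLimits E]

namespace Axioms

variable (G : Axioms E)

theorem glue {α : Type u} {B : E} {A : α → E} {f : ∀ a, A a ⟶ B} (hf : Covers f) {Y : E}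
    (t : ∀ a, A a ⟶ Y)
    (H : ∀ i a b (p : G.g i ⟶ A a) (q : G.g i ⟶ A b), p ≫ f a = q ≫ f b → p ≫ t a = q ≫ t b) :
    ∃! h : B ⟶ Y, ∀ a, f a ≫ h = t a := by
  obtain ⟨c, hc, -, -⟩ := G.hb α A
  let d := Cofan.IsColimit.desc hc f
  have hd : Covers (fun _ : PUnit.{u + 1} => d) :=
    hf.of_forall_factor fun a => ⟨⟨⟩, c.inj a, Cofan.IsColimit.fac hc f a⟩
  haveI := G.effectiveEpi_of_covers d hd
  let t' := Cofan.IsColimit.desc hc t
  have key : ∀ {Z : E} (g₁ g₂ : Z ⟶ c.pt), g₁ ≫ d = g₂ ≫ d → g₁ ≫ t' = g₂ ≫ t' := by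
    intro Z g₁ g₂ h
    refine G.hom_ext _ _ fun i p => ?_
    have cov := covers_of_isColimit hc
    refine (Covers.pullback_family G cov (p ≫ g₁)).hom_ext _ _ fun a => ?_
    refine (Covers.pullback_family G cov (pullback.snd (c.inj a) (p ≫ g₁) ≫ p ≫ g₂)).hom_ext _ _
      fun b => G.hom_ext _ _ fun j r => ?_
    let s₁ := pullback.snd (c.inj a) (p ≫ g₁)
    let q₁ := pullback.fst (c.inj a) (p ≫ g₁)
    let s₂ := pullback.snd (c.inj b) (s₁ ≫ p ≫ g₂)
    let q₂ := pullback.fst (c.inj b) (s₁ ≫ p ≫ g₂)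
    have e₁ : r ≫ s₂ ≫ s₁ ≫ p ≫ g₁ = (r ≫ s₂ ≫ q₁) ≫ c.inj a := by
      simp only [s₁, q₁, Category.assoc, pullback.condition]
    have e₂ : r ≫ s₂ ≫ s₁ ≫ p ≫ g₂ = (r ≫ q₂) ≫ c.inj b := by
      simp only [s₂, q₂, Category.assoc, pullback.condition]
    have hf' : (r ≫ s₂ ≫ q₁) ≫ f a = (r ≫ q₂) ≫ f b := by
      rw [← Cofan.IsColimit.fac hc f a, ← Cofan.IsColimit.fac hc f b, ← Category.assoc,
        ← Category.assoc (r ≫ q₂), ← e₁, ← e₂]
      simp only [Category.assoc]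
      rw [h]
    change r ≫ s₂ ≫ s₁ ≫ p ≫ g₁ ≫ t' = r ≫ s₂ ≫ s₁ ≫ p ≫ g₂ ≫ t'
    simpa only [t', Category.assoc, reassoc_of% e₁, reassoc_of% e₂, Cofan.IsColimit.fac]
      using H j a b _ _ hf'
  refine ⟨EffectiveEpi.desc d t' key, fun a => ?_, fun m hm => ?_⟩
  · rw [← Cofan.IsColimit.fac hc f a, Category.assoc, EffectiveEpi.fac, Cofan.IsColimit.fac]
  · exact EffectiveEpi.uniq d _ key m
      (Cofan.IsColimit.hom_ext hc _ _ fun a => by simp [d, t', hm])

/-- The category of generators. -/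
abbrev Gen := InducedCategory E G.g

/-- The object of the ambient category underlying a generator. -/
abbrev obj (X : G.Gen) : E := G.g X

/-- A generator as an object of the category of generators. -/
abbrev gen (i : G.ι) : G.Gen := i

/-- The family of maps of a sieve. -/
abbrev fam {X : G.Gen} (S : Sieve X) :
    ∀ p : Σ Y : G.Gen, {f : Y ⟶ X // S f}, G.obj p.1 ⟶ G.obj X :=
  fun p => p.2.1.hom

/-- The topology on generators induced by covering families. -/
def topology : GrothendieckTopology G.Gen where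
  sieves X := {S | Covers (G.fam S)}
  top_mem' X := fun B' m _ hm => by
    obtain ⟨t, ht⟩ := hm ⟨X, 𝟙 X, trivial⟩
    have ht' : t ≫ m = 𝟙 _ := ht
    exact ⟨t, by rw [← cancel_mono m, Category.assoc, ht', Category.comp_id, Category.id_comp], ht'⟩
  pullback_stable' := by
    intro X Y S f hS
    refine (Covers.pullback_family G hS f.hom).bind (fun a => G.covers_points _) fun a b => ?_
    refine ⟨⟨b.1, InducedCategory.homMk (b.2 ≫ pullback.snd _ _), ?_⟩, 𝟙 _, Category.id_comp _⟩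
    change S ((InducedCategory.homMk (X := G.gen b.1) (b.2 ≫ pullback.snd _ _)) ≫ f)
    have e : (InducedCategory.homMk (X := G.gen b.1) (b.2 ≫ pullback.snd _ _) ≫ f) =
        (InducedCategory.homMk (X := G.gen b.1) (b.2 ≫ pullback.fst _ _)) ≫ a.2.1 := by
      apply InducedCategory.hom_ext
      simp [pullback.condition]
    rw [e]
    exact S.downward_closed a.2.2 _
  transitive' := by
    intro X S hS R hR
    exact hS.bind (fun a => hR a.2.2) fun a b =>
      ⟨⟨b.1, b.2.1 ≫ a.2.1, b.2.2⟩, 𝟙 _, Category.id_comp _⟩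

theorem mem_topology {X : G.Gen} (S : Sieve X) : S ∈ G.topology X ↔ Covers (G.fam S) := Iff.rfl

/-- Restricted Yoneda. -/
def restrictedYoneda : E ⥤ G.Genᵒᵖ ⥤ Type u :=
  yoneda ⋙ (Functor.whiskeringLeft _ _ _).obj (inducedFunctor G.g).op

theorem isSheaf_restrictedYoneda (X : E) :
    Presheaf.IsSheaf G.topology (G.restrictedYoneda.obj X) := by
  rw [isSheaf_iff_isSheaf_of_type]
  intro Y S hS x hx
  obtain ⟨h, h₁, h₂⟩ := G.glue hS (Y := X) (fun p => x p.2.1 p.2.2) fun i a b p q e =>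
    hx (InducedCategory.homMk (X := G.gen i) p) (InducedCategory.homMk (X := G.gen i) q)
      a.2.2 b.2.2 (InducedCategory.hom_ext e)
  exact ⟨h, fun Z f hf => h₁ ⟨Z, f, hf⟩, fun m hm => h₂ m fun p => hm p.2.1 p.2.2⟩

/-- The functor to sheaves on generators. -/
def toSheaf : E ⥤ Sheaf G.topology (Type u) where
  obj X := ⟨G.restrictedYoneda.obj X, G.isSheaf_restrictedYoneda X⟩
  map f := ⟨G.restrictedYoneda.map f⟩
  map_id X := by ext1; exact G.restrictedYoneda.map_id X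
  map_comp f g := by ext1; exact G.restrictedYoneda.map_comp f g

theorem toSheaf_faithful : G.toSheaf.Faithful :=
  ⟨fun {X Y} a b h => G.hom_ext a b fun i p =>
    ConcreteCategory.congr_hom (NatTrans.congr_app
      (congrArg (fun t : G.toSheaf.obj X ⟶ G.toSheaf.obj Y => t.hom) h) (op (i : G.Gen))) p⟩

theorem toSheaf_full : G.toSheaf.Full := by
  refine ⟨fun {X Y} η => ?_⟩
  obtain ⟨h, h₁, -⟩ := G.glue (G.covers_points X) (Y := Y)
    (fun p => η.hom.app (op (G.gen p.1)) p.2) fun i a b p q e =>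
      (ConcreteCategory.congr_hom
        (η.hom.naturality (InducedCategory.homMk (X := G.gen i) (Y := G.gen a.1) p).op) a.2).symm.trans
        ((congrArg (η.hom.app (op (G.gen i))) e).trans
          (ConcreteCategory.congr_hom
            (η.hom.naturality (InducedCategory.homMk (X := G.gen i) (Y := G.gen b.1) q).op) b.2))
  refine ⟨h, ?_⟩
  ext1
  ext c p
  exact h₁ ⟨c.unop, p⟩

section EssSurj

variable (F : Sheaf G.topology (Type u))

theorem sheaf_ext {X : G.Gen} {S : Sieve X} (hS : S ∈ G.topology X) {x y : F.obj.obj (op X)}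
    (h : ∀ {Y : G.Gen} (f : Y ⟶ X), S f → F.obj.map f.op x = F.obj.map f.op y) : x = y :=
  ((isSheaf_iff_isSheaf_of_type _ _).1 F.property S hS).isSeparatedFor.ext fun _ f hf => h f hf

/-- The elements of a sheaf. -/
abbrev Elt := Σ i : G.Gen, F.obj.obj (op i)

variable {G F} {c : Cofan (fun p : G.Elt F => G.obj p.1)} (hc : IsColimit c)
  (hd : CoproductDisjoint (fun p : G.Elt F => G.obj p.1))

include hc hd in
theorem elt_eq {k : G.Gen} (p q : G.Elt F) (w : k ⟶ p.1) (w' : k ⟶ q.1)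
    (h : w.hom ≫ c.inj p = w'.hom ≫ c.inj q) :
    F.obj.map w.op p.2 = F.obj.map w'.op q.2 := by
  by_cases hpq : p = q
  · subst hpq
    haveI := hd.mono_inj hc p
    rw [InducedCategory.hom_ext ((cancel_mono (c.inj p)).1 h)]
  · obtain ⟨hZ⟩ := hd.nonempty_isInitial_of_ne hc hpq _
      (pullback.isLimit (c.inj p) (c.inj q))
    have hcov : Covers (fun a : PEmpty.{u + 1} =>
        (PEmpty.elim a : G.obj k ⟶ pullback (c.inj p) (c.inj q))) := fun B' m _ _ =>
      ⟨hZ.to B', by rw [← cancel_mono m, Category.assoc, hZ.hom_ext (hZ.to B' ≫ m) (𝟙 _)]; simp,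
        hZ.hom_ext _ _⟩
    have := Covers.pullback_family G hcov (pullback.lift w.hom w'.hom h)
    refine G.sheaf_ext F (S := ⊥) ?_ fun f hf => False.elim hf
    intro B' m _ _
    exact this m fun a => PEmpty.elim a

variable (c) in
/-- The defining property of the element of `F` attached to a point of the coproduct. -/
def IsEps {l : G.Gen} (a : G.obj l ⟶ c.pt) (x : F.obj.obj (op l)) : Prop :=
  ∀ (k : G.Gen) (f : k ⟶ l) (p : G.Elt F) (w : k ⟶ p.1),
    w.hom ≫ c.inj p = f.hom ≫ a → F.obj.map f.op x = F.obj.map w.op p.2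

variable (c) in
/-- The sieve of maps along which a point of the coproduct lands in a summand. -/
def sieveOf {l : G.Gen} (a : G.obj l ⟶ c.pt) : Sieve l where
  arrows k f := ∃ (p : G.Elt F) (w : k ⟶ p.1), w.hom ≫ c.inj p = f.hom ≫ a
  downward_closed := by
    rintro Y Z f ⟨p, w, h⟩ g
    exact ⟨p, g ≫ w, by simp [h]⟩

include hc in
theorem sieveOf_mem {l : G.Gen} (a : G.obj l ⟶ c.pt) : sieveOf c a ∈ G.topology l := by
  refine (Covers.pullback_family G (covers_of_isColimit hc) a).bind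
    (fun _ => G.covers_points _) fun p q => ?_
  exact ⟨⟨q.1, InducedCategory.homMk (q.2 ≫ pullback.snd _ _), p,
    InducedCategory.homMk (q.2 ≫ pullback.fst _ _), by simp [pullback.condition]⟩,
    𝟙 _, Category.id_comp _⟩

include hc hd in
theorem existsUnique_isEps {l : G.Gen} (a : G.obj l ⟶ c.pt) : ∃! x, IsEps c a x := by
  let fam : Presieve.FamilyOfElements F.obj (sieveOf c a).arrows :=
    fun k f hf => F.obj.map hf.choose_spec.choose.op hf.choose.2
  have hfam : fam.Compatible := by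
    intro Y₁ Y₂ Z g₁ g₂ f₁ f₂ h₁ h₂ e
    change F.obj.map g₁.op (F.obj.map _ _) = F.obj.map g₂.op (F.obj.map _ _)
    rw [← Functor.map_comp_apply, ← Functor.map_comp_apply, ← op_comp, ← op_comp]
    refine elt_eq hc hd _ _ _ _ ?_
    have e' : g₁.hom ≫ f₁.hom = g₂.hom ≫ f₂.hom := congrArg InducedCategory.Hom.hom e
    simp [h₁.choose_spec.choose_spec, h₂.choose_spec.choose_spec, reassoc_of% e']
  obtain ⟨x, hx, hx'⟩ :=
    (isSheaf_iff_isSheaf_of_type _ _).1 F.property _ (sieveOf_mem hc a) fam hfam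
  refine ⟨x, fun k f p w h => ?_, fun y hy => hx' y fun k f hf => ?_⟩
  · have hf : sieveOf c a f := ⟨p, w, h⟩
    exact (hx f hf).trans (elt_eq hc hd _ _ _ _ (hf.choose_spec.choose_spec.trans h.symm))
  · exact hy _ f _ _ hf.choose_spec.choose_spec

/-- The element of `F` attached to a point of the coproduct. -/
noncomputable def eps {l : G.Gen} (a : G.obj l ⟶ c.pt) : F.obj.obj (op l) :=
  (existsUnique_isEps hc hd a).choose

theorem eps_spec {l : G.Gen} (a : G.obj l ⟶ c.pt) : IsEps c a (eps hc hd a) :=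
  (existsUnique_isEps hc hd a).choose_spec.1

theorem eps_eq {l : G.Gen} {a : G.obj l ⟶ c.pt} {x : F.obj.obj (op l)} (h : IsEps c a x) :
    eps hc hd a = x :=
  (existsUnique_isEps hc hd a).unique (eps_spec hc hd a) h

theorem eps_comp {l k : G.Gen} (f : k ⟶ l) (a : G.obj l ⟶ c.pt) :
    eps hc hd (f.hom ≫ a) = F.obj.map f.op (eps hc hd a) := by
  refine eps_eq hc hd fun j h p w e => ?_
  rw [← Functor.map_comp_apply, ← op_comp]
  exact eps_spec hc hd a j (h ≫ f) p w (by simp [e])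

theorem eps_inj {k : G.Gen} (p : G.Elt F) (w : k ⟶ p.1) :
    eps hc hd (w.hom ≫ c.inj p) = F.obj.map w.op p.2 := by
  refine eps_eq hc hd fun j h q w' e => ?_
  rw [← Functor.map_comp_apply, ← op_comp]
  exact elt_eq hc hd _ _ _ _ (by simp [e])

theorem map_comp_eq {k l i j : G.Gen} (w : k ⟶ l) {u : l ⟶ i} {v : l ⟶ j}
    {x : F.obj.obj (op i)} {y : F.obj.obj (op j)} (h : F.obj.map u.op x = F.obj.map v.op y) :
    F.obj.map (w ≫ u).op x = F.obj.map (w ≫ v).op y := by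
  rw [op_comp, op_comp, Functor.map_comp_apply, Functor.map_comp_apply, h]

variable (G F) in
/-- Pairs of elements agreeing over a generator. -/
abbrev RelIdx := Σ (p q : G.Elt F) (l : G.Gen),
  {uv : (l ⟶ p.1) × (l ⟶ q.1) // F.obj.map uv.1.op p.2 = F.obj.map uv.2.op q.2}

include hc hd in
theorem mem_iff_eps {c' : Cofan (fun k : RelIdx G F => G.obj k.2.2.1)} (hc' : IsColimit c')
    {e : ∀ k : RelIdx G F, G.obj k.2.2.1 ⟶ c.pt ⨯ c.pt}
    (he₁ : ∀ k, e k ≫ prod.fst = k.2.2.2.1.1.hom ≫ c.inj k.1)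
    (he₂ : ∀ k, e k ≫ prod.snd = k.2.2.2.1.2.hom ≫ c.inj k.2.1)
    {R : E} {s : c'.pt ⟶ R} {r : R ⟶ c.pt ⨯ c.pt} [Mono r]
    (hs : s ≫ r = Cofan.IsColimit.desc hc' e) (hscov : Covers (fun k => c'.inj k ≫ s))
    {T : E} (a b : T ⟶ c.pt) : (∃ f : T ⟶ R, f ≫ r ≫ prod.fst = a ∧ f ≫ r ≫ prod.snd = b) ↔
      ∀ (i : G.Gen) (p : G.obj i ⟶ T), eps hc hd (p ≫ a) = eps hc hd (p ≫ b) := by
  constructor
  · rintro ⟨f, rfl, rfl⟩ i p
    refine G.sheaf_ext F (S := ⟨fun k g => ∃ (t : RelIdx G F) (w : k ⟶ t.2.2.1),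
      w.hom ≫ c'.inj t ≫ s = g.hom ≫ p ≫ f, ?_⟩) ?_ ?_
    · rintro Y Z g ⟨t, w, h⟩ g'
      exact ⟨t, g' ≫ w, by simp [h]⟩
    · refine (Covers.pullback_family G hscov (p ≫ f)).bind (fun _ => G.covers_points _)
        fun t q => ?_
      exact ⟨⟨q.1, InducedCategory.homMk (q.2 ≫ pullback.snd _ _), t,
        InducedCategory.homMk (q.2 ≫ pullback.fst _ _), by simp [pullback.condition]⟩,
        𝟙 _, Category.id_comp _⟩
    · rintro k g ⟨t, w, h⟩
      have he : w.hom ≫ e t = g.hom ≫ p ≫ f ≫ r := by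
        rw [← Cofan.IsColimit.fac hc' e t, ← hs]
        simpa only [Category.assoc] using h =≫ r
      have h₁ : (w ≫ t.2.2.2.1.1).hom ≫ c.inj t.1 = g.hom ≫ p ≫ f ≫ r ≫ prod.fst := by
        simpa [he₁] using he =≫ prod.fst
      have h₂ : (w ≫ t.2.2.2.1.2).hom ≫ c.inj t.2.1 = g.hom ≫ p ≫ f ≫ r ≫ prod.snd := by
        simpa [he₂] using he =≫ prod.snd
      refine (eps_comp hc hd g _).symm.trans (Eq.trans ?_ (eps_comp hc hd g _))
      refine (congrArg (eps hc hd) h₁.symm).trans (Eq.trans ?_ (congrArg (eps hc hd) h₂))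
      exact (eps_inj hc hd t.1 (w ≫ t.2.2.2.1.1)).trans
        ((map_comp_eq w t.2.2.2.2).trans (eps_inj hc hd t.2.1 (w ≫ t.2.2.2.1.2)).symm)
  · intro H
    obtain ⟨f, hf⟩ := G.lift r (prod.lift a b) fun i p => by
      refine ((G.mem_topology _).1 (sieveOf_mem hc (l := (i : G.Gen)) (p ≫ a))).lift r _
        fun q => ?_
      obtain ⟨k, g, p₀, w, hw⟩ := q
      refine ((G.mem_topology _).1 (sieveOf_mem hc (l := k) (g.hom ≫ p ≫ b))).lift r _
        fun q' => ?_
      obtain ⟨j, g', q₀, w', hw'⟩ := q'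
      have hx : F.obj.map (g' ≫ w).op p₀.2 = F.obj.map w'.op q₀.2 := by
        rw [← eps_inj hc hd p₀, ← eps_inj hc hd q₀, hw']
        simp only [InducedCategory.comp_hom, Category.assoc, hw]
        rw [eps_comp, eps_comp, eps_comp, eps_comp, H]
      refine ⟨c'.inj ⟨p₀, q₀, j, (g' ≫ w, w'), hx⟩ ≫ s, ?_⟩
      rw [Category.assoc, hs, Cofan.IsColimit.fac]
      refine prod.hom_ext ?_ ?_
      · simp [he₁, hw, prod.lift_fst]
      · simp [he₂, hw', prod.lift_snd]
    exact ⟨f, by simp [reassoc_of% hf, prod.lift_fst], by simp [reassoc_of% hf, prod.lift_snd]⟩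

include hc hd in
theorem essSurj_aux : ∃ X : E, Nonempty (G.toSheaf.obj X ≅ F) := by
  obtain ⟨c', hc', -, -⟩ := G.hb (RelIdx G F) (fun k => G.obj k.2.2.1)
  let e : ∀ k : RelIdx G F, G.obj k.2.2.1 ⟶ c.pt ⨯ c.pt := fun k =>
    prod.lift (k.2.2.2.1.1.hom ≫ c.inj k.1) (k.2.2.2.1.2.hom ≫ c.inj k.2.1)
  obtain ⟨R, s, r, hr, hs, -, hseff⟩ := G.exists_fac (Cofan.IsColimit.desc hc' e)
  have hscov : Covers (fun k => c'.inj k ≫ s) := by
    refine (covers_singleton s).bind (fun _ => covers_of_isColimit hc') fun _ k => ?_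
    exact ⟨k, 𝟙 _, by simp⟩
  have he₁ : ∀ k, e k ≫ prod.fst = k.2.2.2.1.1.hom ≫ c.inj k.1 := fun k => prod.lift_fst _ _
  have he₂ : ∀ k, e k ≫ prod.snd = k.2.2.2.1.2.hom ≫ c.inj k.2.1 := fun k => prod.lift_snd _ _
  have mem_iff : ∀ {T : E} (a b : T ⟶ c.pt), (∃ f : T ⟶ R, f ≫ r ≫ prod.fst = a ∧
      f ≫ r ≫ prod.snd = b) ↔
      ∀ (i : G.Gen) (p : G.obj i ⟶ T), eps hc hd (p ≫ a) = eps hc hd (p ≫ b) :=
    fun a b => mem_iff_eps hc hd hc' he₁ he₂ hs hscov a b
  have hR : SGA4.IsEquivRel (r ≫ prod.fst) (r ≫ prod.snd) := by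
    intro T
    refine ⟨fun f f' h => (cancel_mono r).1 (prod.hom_ext ?_ ?_), fun a => ?_, ?_, ?_⟩
    · simpa using congrArg Prod.fst h
    · simpa using congrArg Prod.snd h
    · exact (mem_iff a a).2 fun _ _ => rfl
    · exact fun h => (mem_iff _ _).2 fun i p => ((mem_iff _ _).1 h i p).symm
    · exact fun h h' => (mem_iff _ _).2 fun i p =>
        ((mem_iff _ _).1 h i p).trans ((mem_iff _ _).1 h' i p)
  obtain ⟨X, π, hpb, hpo, huniv⟩ := G.hc _ _ _ _ hR
  haveI : EffectiveEpi π := by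
    haveI := huniv X (𝟙 X)
    have h := IsPullback.of_horiz_isIso (fst := 𝟙 c.pt) (g := 𝟙 X) (f := π) (snd := π) ⟨by simp⟩
    rw [← h.isoPullback_hom_snd]
    infer_instance
  have rel_iff : ∀ {l : G.Gen} (a b : G.obj l ⟶ c.pt),
      a ≫ π = b ≫ π ↔ eps hc hd a = eps hc hd b := by
    intro l a b
    constructor
    · intro h
      simpa using (mem_iff a b).1 ⟨hpb.lift a b h, hpb.lift_fst _ _ h, hpb.lift_snd _ _ h⟩ l (𝟙 _)
    · intro h
      obtain ⟨f, rfl, rfl⟩ := (mem_iff a b).2 fun i p => by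
        rw [show p = (InducedCategory.homMk p : i ⟶ l).hom from rfl, eps_comp, eps_comp, h]
      simpa only [Category.assoc] using f ≫= hpo.w
  have eps_inj' : ∀ p : G.Elt F, eps hc hd (c.inj p) = p.2 := fun p => by
    simpa using eps_inj hc hd p (𝟙 p.1)
  let ψ : ∀ (i : G.Gen), F.obj.obj (op i) → (G.obj i ⟶ X) := fun i x => c.inj ⟨i, x⟩ ≫ π
  have ψ_eps : ∀ {l : G.Gen} (a : G.obj l ⟶ c.pt), ψ l (eps hc hd a) = a ≫ π := fun a =>
    (rel_iff _ _).2 (eps_inj' _)
  have ψ_nat : ∀ {i j : G.Gen} (f : j ⟶ i) (x : F.obj.obj (op i)),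
      ψ j (F.obj.map f.op x) = f.hom ≫ ψ i x := fun {i j} f x => by
    change _ = f.hom ≫ c.inj ⟨i, x⟩ ≫ π
    rw [← Category.assoc]
    exact (rel_iff _ _).2 ((eps_inj' ⟨j, F.obj.map f.op x⟩).trans
      (eps_inj hc hd ⟨i, x⟩ f).symm)
  have ψ_bij : ∀ i, Function.Bijective (ψ i) := by
    intro i
    refine ⟨fun x y h => by simpa [eps_inj'] using (rel_iff _ _).1 h, fun t => ?_⟩
    let S : Sieve i :=
      { arrows := fun k f => ∃ a : G.obj k ⟶ c.pt, a ≫ π = f.hom ≫ t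
        downward_closed := by
          rintro Y Z f ⟨a, ha⟩ g
          exact ⟨g.hom ≫ a, by simp [ha]⟩ }
    have hS : S ∈ G.topology i := by
      refine (Covers.pullback_family G (covers_singleton π) t).bind (fun _ => G.covers_points _)
        fun u q => ?_
      exact ⟨⟨q.1, InducedCategory.homMk (q.2 ≫ pullback.snd _ _), q.2 ≫ pullback.fst _ _,
        by simp [pullback.condition]⟩, 𝟙 _, Category.id_comp _⟩
    let fam : Presieve.FamilyOfElements F.obj S.arrows := fun k f hf => eps hc hd hf.choose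
    have hfam : fam.Compatible := by
      intro Y₁ Y₂ Z g₁ g₂ f₁ f₂ h₁ h₂ e
      change F.obj.map g₁.op (eps hc hd _) = F.obj.map g₂.op (eps hc hd _)
      rw [← eps_comp, ← eps_comp]
      refine (rel_iff _ _).1 ?_
      have e' : g₁.hom ≫ f₁.hom = g₂.hom ≫ f₂.hom := congrArg InducedCategory.Hom.hom e
      simp [h₁.choose_spec, h₂.choose_spec, reassoc_of% e']
    obtain ⟨x, hx, -⟩ := (isSheaf_iff_isSheaf_of_type _ _).1 F.property S hS fam hfam
    refine ⟨x, Covers.hom_ext hS _ _ fun q => ?_⟩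
    obtain ⟨k, f, hf⟩ := q
    change f.hom ≫ ψ i x = f.hom ≫ t
    rw [← ψ_nat, hx f hf, ψ_eps, hf.choose_spec]
  let η : F.obj ≅ G.restrictedYoneda.obj X :=
    NatIso.ofComponents (fun i => (Equiv.ofBijective _ (ψ_bij i.unop)).toIso) fun {i j} f => by
      ext x
      exact ψ_nat f.unop x
  exact ⟨X, ⟨((fullyFaithfulSheafToPresheaf G.topology (Type u)).preimageIso
    (X := F) (Y := G.toSheaf.obj X) η).symm⟩⟩

end EssSurj

theorem toSheaf_essSurj : G.toSheaf.EssSurj := by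
  refine ⟨fun F => ?_⟩
  obtain ⟨c, hc, hd, -⟩ := G.hb (G.Elt F) (fun p => G.obj p.1)
  obtain ⟨X, e⟩ := essSurj_aux (G := G) (F := F) hc hd
  exact ⟨X, e⟩

include G in
theorem isTopos : SGA4.IsTopos.{v, u} E := by
  haveI := G.toSheaf_faithful
  haveI := G.toSheaf_full
  haveI := G.toSheaf_essSurj
  haveI : G.toSheaf.IsEquivalence := {}
  exact ⟨G.Gen, inferInstance, G.topology, ⟨G.toSheaf.asEquivalence⟩⟩

end Axioms

end Groth.Agent.GiraudLib
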