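/-
The canonical topology of a category satisfying Giraud's axioms, and its sheaves.
-/
import Groth.Agent.GiraudLib.Site
import Groth.Agent.GiraudLib.Conservative
import Mathlib.CategoryTheory.Sites.Canonical
import Mathlib.CategoryTheory.Limits.Types.Limits
import Mathlib.CategoryTheory.Limits.Types.Pullbacks
import Mathlib.CategoryTheory.Limits.Opposites
import Mathlib.CategoryTheory.Limits.Shapes.Opposites.Pullbacks
import Mathlib.CategoryTheory.Limits.Shapes.Opposites.Products
import Mathlib.CategoryTheory.Limits.Yoneda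
import Mathlib.CategoryTheory.Adjunction.PartialAdjoint

universe w v u

open CategoryTheory CategoryTheory.Limits Opposite

namespace Groth.Agent.GiraudLib

variable {E : Type v} [Category.{u} E] [HasFiniteLimits E]

theorem fan_bijective {α : Type*} {X : α → Type w} {P : Type w} {π : ∀ a, P ⟶ X a}
    (h : IsLimit (Fan.mk P π)) : Function.Bijective (fun x a => π a x : P → ∀ a, X a) := by
  refine ⟨fun x y e => ?_, fun t => ?_⟩
  · have : (↾fun _ : PUnit.{w + 1} => x : PUnit ⟶ P) = ↾fun _ => y :=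
      Fan.IsLimit.hom_ext h _ _ fun a => by
        ext
        exact congrFun e a
    exact ConcreteCategory.congr_hom this PUnit.unit
  · refine ⟨Fan.IsLimit.lift h (fun a => ↾fun _ : PUnit.{w + 1} => t a) PUnit.unit, funext fun a => ?_⟩
    exact ConcreteCategory.congr_hom (Fan.IsLimit.fac h (fun a => ↾fun _ : PUnit.{w + 1} => t a) a) _

namespace Axioms

variable (G : Axioms E)

/-- Points lying in a sieve. -/
abbrev PtsIn {B : E} (R : Sieve B) := {p : Σ i, (G.g i ⟶ B) // R p.2}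

theorem covers_ptsIn {B : E} (R : Sieve B)
    (h : Covers (fun a : Σ Z : E, {f : Z ⟶ B // R f} => a.2.1)) :
    Covers (fun p : G.PtsIn R => p.1.2) := by
  intro B' m _ hm
  refine h m fun a => (G.covers_points a.1).lift m a.2.1 fun q => ?_
  exact hm ⟨⟨q.1, q.2 ≫ a.2.1⟩, R.downward_closed a.2.2 q.2⟩

include G in
theorem covers_of_mem_canonical {B : E} {R : Sieve B}
    (hR : R ∈ Sheaf.canonicalTopology E B) :
    Covers (fun a : Σ Z : E, {f : Z ⟶ B // R f} => a.2.1) := by
  intro B' m _ hm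
  choose t ht using hm
  have hs := fun Y : E => Sheaf.isSheaf_yoneda_obj Y R hR
  let x : Presieve.FamilyOfElements (yoneda.obj B') R.arrows := fun Z f hf => t ⟨Z, f, hf⟩
  have hx : x.Compatible := by
    intro Y₁ Y₂ Z g₁ g₂ f₁ f₂ h₁ h₂ e
    change g₁ ≫ t ⟨Y₁, f₁, h₁⟩ = g₂ ≫ t ⟨Y₂, f₂, h₂⟩
    rw [← cancel_mono m, Category.assoc, Category.assoc, ht, ht]
    exact e
  obtain ⟨d, hd, -⟩ := hs B' x hx
  have hd' : d ≫ m = 𝟙 B := (hs B).isSeparatedFor.ext fun Z f hf => by
    change f ≫ d ≫ m = f ≫ 𝟙 B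
    have : f ≫ d = t ⟨Z, f, hf⟩ := hd f hf
    rw [reassoc_of% this, ht, Category.comp_id]
  exact ⟨d, by rw [← cancel_mono m, Category.assoc, hd', Category.comp_id, Category.id_comp], hd'⟩

/-- The topology of covering sieves of the category itself. -/
def coverTopology : GrothendieckTopology E where
  sieves B := {R | Covers (fun a : Σ Z : E, {f : Z ⟶ B // R f} => a.2.1)}
  top_mem' B := fun B' m _ hm => by
    obtain ⟨t, ht⟩ := hm ⟨B, 𝟙 B, trivial⟩
    have ht' : t ≫ m = 𝟙 _ := ht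
    exact ⟨t, by rw [← cancel_mono m, Category.assoc, ht', Category.comp_id, Category.id_comp], ht'⟩
  pullback_stable' := by
    intro X Y R f hR
    refine (Covers.pullback_family G (G.covers_ptsIn R hR) f).of_forall_factor fun p => ?_
    refine ⟨⟨_, pullback.snd p.1.2 f, ?_⟩, 𝟙 _, Category.id_comp _⟩
    change R (pullback.snd p.1.2 f ≫ f)
    rw [← pullback.condition]
    exact R.downward_closed p.2 _
  transitive' := by
    intro X S hS R hR B' m _ hm
    exact hS m fun a => (hR a.2.2).lift m a.2.1 fun b => hm ⟨b.1, b.2.1 ≫ a.2.1, b.2.2⟩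

/-- A presheaf glues along small covering families. -/
def SmallGlue (P : Eᵒᵖ ⥤ Type w) : Prop :=
  ∀ {α : Type u} {B : E} {A : α → E} (f : ∀ a, A a ⟶ B), Covers f →
    ∀ t : ∀ a, P.obj (op (A a)),
      (∀ i a b (p : G.g i ⟶ A a) (q : G.g i ⟶ A b), p ≫ f a = q ≫ f b →
        P.map p.op (t a) = P.map q.op (t b)) →
      ∃! x, ∀ a, P.map (f a).op x = t a

variable {G}

theorem SmallGlue.ext {P : Eᵒᵖ ⥤ Type w} (hP : G.SmallGlue P) {α : Type u} {B : E} {A : α → E}
    {f : ∀ a, A a ⟶ B} (hf : Covers f) {x y : P.obj (op B)}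
    (h : ∀ a, P.map (f a).op x = P.map (f a).op y) : x = y :=
  (hP f hf (fun a => P.map (f a).op x) fun i a b p q e => by
    rw [← Functor.map_comp_apply, ← Functor.map_comp_apply, ← op_comp, ← op_comp, e]).unique
      (fun _ => rfl) fun a => (h a).symm

theorem SmallGlue.ext_points {P : Eᵒᵖ ⥤ Type w} (hP : G.SmallGlue P) {B : E}
    {x y : P.obj (op B)} (h : ∀ i (p : G.g i ⟶ B), P.map p.op x = P.map p.op y) : x = y :=
  hP.ext (G.covers_points B) fun p => h p.1 p.2

theorem SmallGlue.isSheaf {P : Eᵒᵖ ⥤ Type w} (hP : G.SmallGlue P) :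
    Presieve.IsSheaf G.coverTopology P := by
  intro B R hR x hx
  obtain ⟨x₀, h₁, h₂⟩ := hP (fun p : G.PtsIn R => p.1.2) (G.covers_ptsIn R hR)
    (fun p => x p.1.2 p.2) fun i a b p q e => hx p q a.2 b.2 e
  refine ⟨x₀, fun Z f hf => hP.ext_points fun i p => ?_,
    fun y hy => h₂ y fun p => hy p.1.2 p.2⟩
  rw [← Functor.map_comp_apply, ← op_comp, h₁ ⟨⟨i, p ≫ f⟩, R.downward_closed hf p⟩]
  have h := hx (𝟙 _) p (R.downward_closed hf p) hf (Category.id_comp _)
  simpa using h

variable (G)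

theorem smallGlue_yoneda (Y : E) : G.SmallGlue (yoneda.obj Y) := fun f hf t H => G.glue hf t H

theorem coverTopology_eq : G.coverTopology = Sheaf.canonicalTopology E := by
  refine le_antisymm (Sheaf.le_finestTopology _ _ fun P hP => ?_)
    (fun B R hR => G.covers_of_mem_canonical hR)
  obtain ⟨Y, rfl⟩ := hP
  exact SmallGlue.isSheaf (G := G) (G.smallGlue_yoneda Y)

variable {G}

theorem smallGlue_of_isSheaf {P : Eᵒᵖ ⥤ Type w}
    (hP : Presieve.IsSheaf (Sheaf.canonicalTopology E) P) : G.SmallGlue P := by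
  intro α B A f hf t ht
  have hmem : Sieve.ofArrows A f ∈ G.coverTopology B :=
    hf.of_forall_factor fun a => ⟨⟨A a, f a, Sieve.ofArrows_mk A f a⟩, 𝟙 _, Category.id_comp _⟩
  have hsep : ∀ (W : E) (x y : P.obj (op W)),
      (∀ i (p : G.g i ⟶ W), P.map p.op x = P.map p.op y) → x = y := by
    intro W x y h
    let Aw : (Σ i, (G.g i ⟶ W)) → E := fun p => G.g p.1
    have hm : Sieve.ofArrows Aw (fun p => p.2) ∈ G.coverTopology W :=
      (G.covers_points W).of_forall_factor fun p =>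
        ⟨⟨Aw p, p.2, Sieve.ofArrows_mk Aw (fun p => p.2) p⟩, 𝟙 _, Category.id_comp _⟩
    rw [coverTopology_eq] at hm
    refine (hP _ hm).isSeparatedFor.ext ?_
    rintro Z q ⟨_, u, _, ⟨p⟩, rfl⟩
    simp only [op_comp, Functor.map_comp_apply, h p.1 p.2]
  rw [coverTopology_eq] at hmem
  have := hP _ hmem
  rw [← Presieve.isSheafFor_iff_generate, Presieve.isSheafFor_arrows_iff] at this
  refine this t fun a b Z p q e => hsep Z _ _ fun i r => ?_
  rw [← Functor.map_comp_apply, ← Functor.map_comp_apply, ← op_comp, ← op_comp]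
  exact ht i a b _ _ (by simp [e])

theorem smallGlue_iff_isSheaf {P : Eᵒᵖ ⥤ Type w} :
    G.SmallGlue P ↔ Presieve.IsSheaf (Sheaf.canonicalTopology E) P :=
  ⟨fun h => G.coverTopology_eq ▸ h.isSheaf, smallGlue_of_isSheaf⟩

/-- A continuous presheaf glues. -/
theorem smallGlue_of_preservesLimits (P : Eᵒᵖ ⥤ Type w) [PreservesLimitsOfSize.{u, u} P] :
    G.SmallGlue P := by
  haveI : PreservesLimitsOfSize.{0, 0} P := preservesLimitsOfSize_shrink.{0, u, 0, u} P
  have hpb : ∀ {X Y : E} (d : X ⟶ Y) [EffectiveEpi d],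
      IsPullback (P.map d.op) (P.map d.op) (P.map (pullback.snd d d).op)
        (P.map (pullback.fst d d).op) := fun d _ =>
    ((isPushout_of_effectiveEpi d (IsPullback.of_hasPullback d d)).op).map P
  have hfan : ∀ {α : Type u} {A : α → E} {c : Cofan A}, IsColimit c →
      Function.Bijective (fun x a => P.map (c.inj a).op x : P.obj (op c.pt) → ∀ a, P.obj (op (A a))) :=
    fun {α A c} hc => fan_bijective (isLimitFanMkObjOfIsLimit P _ _ (Cofan.IsColimit.op hc))
  have sep : ∀ {α : Type u} {B : E} {A : α → E} {f : ∀ a, A a ⟶ B}, Covers f →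
      ∀ (x y : P.obj (op B)), (∀ a, P.map (f a).op x = P.map (f a).op y) → x = y := by
    intro α B A f hf x y h
    obtain ⟨c, hc, -, -⟩ := G.hb α A
    let d := Cofan.IsColimit.desc hc f
    haveI := G.effectiveEpi_of_covers d
      (hf.of_forall_factor fun a => ⟨⟨⟩, c.inj a, Cofan.IsColimit.fac hc f a⟩)
    have hxy : P.map d.op x = P.map d.op y := (hfan hc).1 (funext fun a => by
      dsimp only
      rw [← Functor.map_comp_apply, ← Functor.map_comp_apply, ← op_comp,
        Cofan.IsColimit.fac, h])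
    exact Types.ext_of_isPullback (hpb d) hxy hxy
  intro α B A f hf t ht
  obtain ⟨c, hc, -, -⟩ := G.hb α A
  let d := Cofan.IsColimit.desc hc f
  haveI := G.effectiveEpi_of_covers d
    (hf.of_forall_factor fun a => ⟨⟨⟩, c.inj a, Cofan.IsColimit.fac hc f a⟩)
  obtain ⟨x₁, hx₁⟩ := (hfan hc).2 t
  have hx₁' : ∀ a, P.map (c.inj a).op x₁ = t a := fun a => congrFun hx₁ a
  have cov := covers_of_isColimit hc
  have hxq : ∀ a {Z : E} (q : Z ⟶ A a), P.map (q ≫ c.inj a).op x₁ = P.map q.op (t a) := by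
    intro a Z q
    rw [op_comp, Functor.map_comp_apply, hx₁']
  have hK : P.map (pullback.snd d d).op x₁ = P.map (pullback.fst d d).op x₁ := by
    refine sep (G.covers_points _) _ _ fun p => ?_
    refine sep (Covers.pullback_family G cov (p.2 ≫ pullback.snd d d)) _ _ fun a => ?_
    refine sep (Covers.pullback_family G cov
      (pullback.snd (c.inj a) (p.2 ≫ pullback.snd d d) ≫ p.2 ≫ pullback.fst d d)) _ _ fun b => ?_
    refine sep (G.covers_points _) _ _ fun r => ?_
    obtain ⟨j, r⟩ := r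
    let s₁ := pullback.snd (c.inj a) (p.2 ≫ pullback.snd d d)
    let s₂ := pullback.snd (c.inj b) (s₁ ≫ p.2 ≫ pullback.fst d d)
    let q₁ := r ≫ s₂ ≫ pullback.fst (c.inj a) (p.2 ≫ pullback.snd d d)
    let q₂ := r ≫ pullback.fst (c.inj b) (s₁ ≫ p.2 ≫ pullback.fst d d)
    have e₁ : r ≫ s₂ ≫ s₁ ≫ p.2 ≫ pullback.snd d d = q₁ ≫ c.inj a := by
      simp only [q₁, s₁, Category.assoc, pullback.condition]
    have e₂ : r ≫ s₂ ≫ s₁ ≫ p.2 ≫ pullback.fst d d = q₂ ≫ c.inj b := by
      simp only [q₂, s₂, Category.assoc, pullback.condition]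
    have e : q₁ ≫ f a = q₂ ≫ f b := by
      rw [← Cofan.IsColimit.fac hc f a, ← Cofan.IsColimit.fac hc f b, ← Category.assoc,
        ← Category.assoc q₂, ← e₁, ← e₂]
      simp only [Category.assoc]
      rw [pullback.condition]
    simp only [← Functor.map_comp_apply, ← op_comp]
    change P.map (r ≫ s₂ ≫ s₁ ≫ p.2 ≫ pullback.snd d d).op x₁ =
      P.map (r ≫ s₂ ≫ s₁ ≫ p.2 ≫ pullback.fst d d).op x₁
    rw [e₁, e₂, hxq, hxq]
    exact ht j a b q₁ q₂ e
  obtain ⟨x, hx, -⟩ := Types.exists_of_isPullback (hpb d) x₁ x₁ hK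
  refine ⟨x, fun a => ?_, fun y hy => sep hf _ _ fun a => ?_⟩
  · rw [← hx₁', ← hx, ← Functor.map_comp_apply, ← op_comp, Cofan.IsColimit.fac]
  · rw [hy, ← hx₁', ← hx, ← Functor.map_comp_apply, ← op_comp, Cofan.IsColimit.fac]

theorem covers_ι_of_isColimit {I : Type*} [Category I] {D : I ⥤ E} {c : Cocone D}
    (hc : IsColimit c) : Covers (fun i => c.ι.app i) := by
  intro B' m _ hm
  choose t ht using hm
  let s : Cocone D :=
    { pt := B'
      ι := { app := t
             naturality := fun i j φ => by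
               rw [← cancel_mono m]
               simp [ht] } }
  have h : hc.desc s ≫ m = 𝟙 c.pt := hc.hom_ext fun i => by simp [s, ht]
  exact ⟨hc.desc s,
    by rw [← cancel_mono m, Category.assoc, h, Category.comp_id, Category.id_comp], h⟩

/-- A presheaf that glues along covers turns colimits into limits. -/
theorem SmallGlue.existsUnique_of_isColimit {P : Eᵒᵖ ⥤ Type w} (hP : G.SmallGlue P)
    {I : Type u} [SmallCategory I] {D : I ⥤ E} {c : Cocone D} (hc : IsColimit c)
    (x : ∀ i, P.obj (op (D.obj i)))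
    (hx : ∀ {i j : I} (φ : i ⟶ j), P.map (D.map φ).op (x j) = x i) :
    ∃! y : P.obj (op c.pt), ∀ i, P.map (c.ι.app i).op y = x i := by
  obtain ⟨c₁, hc₁, hdis, -⟩ := G.hb I D.obj
  have hinj : ∀ l a b (p : G.g l ⟶ D.obj a) (q : G.g l ⟶ D.obj b),
      p ≫ c₁.inj a = q ≫ c₁.inj b → P.map p.op (x a) = P.map q.op (x b) := by
    intro l a b p q e
    by_cases hab : a = b
    · subst hab
      haveI := hdis.mono_inj hc₁ a
      rw [(cancel_mono (c₁.inj a)).1 e]
    · obtain ⟨hZ⟩ := hdis.nonempty_isInitial_of_ne hc₁ hab _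
        (pullback.isLimit (c₁.inj a) (c₁.inj b))
      have hcov : Covers (fun z : PEmpty.{u + 1} =>
          (PEmpty.elim z : G.g l ⟶ pullback (c₁.inj a) (c₁.inj b))) := fun B' m _ _ =>
        ⟨hZ.to B', by rw [← cancel_mono m, Category.assoc, hZ.hom_ext (hZ.to B' ≫ m) (𝟙 _)]; simp,
          hZ.hom_ext _ _⟩
      have hcov' := Covers.pullback_family G hcov (pullback.lift p q e)
      exact hP.ext hcov' fun z => PEmpty.elim z
  obtain ⟨x₁, hx₁, -⟩ := hP c₁.inj (covers_of_isColimit hc₁) x hinj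
  -- pairs of points on which `x₁` takes the same value
  let K := Σ l : G.ι, {z : (G.g l ⟶ c₁.pt) × (G.g l ⟶ c₁.pt) //
    P.map z.1.op x₁ = P.map z.2.op x₁}
  obtain ⟨c', hc', -, -⟩ := G.hb K (fun k => G.g k.1)
  let e : ∀ k : K, G.g k.1 ⟶ c₁.pt ⨯ c₁.pt := fun k => prod.lift k.2.1.1 k.2.1.2
  obtain ⟨R, s, r, hr, hs, -, hseff⟩ := G.exists_fac (Cofan.IsColimit.desc hc' e)
  have hscov : Covers (fun k => c'.inj k ≫ s) :=
    (covers_singleton s).bind (fun _ => covers_of_isColimit hc') fun _ k => ⟨k, 𝟙 _, by simp⟩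
  have mem_iff : ∀ {T : E} (a b : T ⟶ c₁.pt), (∃ f : T ⟶ R, f ≫ r ≫ prod.fst = a ∧
      f ≫ r ≫ prod.snd = b) ↔
      ∀ i (p : G.g i ⟶ T), P.map (p ≫ a).op x₁ = P.map (p ≫ b).op x₁ := by
    intro T a b
    constructor
    · rintro ⟨f, rfl, rfl⟩ i p
      refine hP.ext (Covers.pullback_family G hscov (p ≫ f)) fun k => hP.ext_points fun j q => ?_
      let q₁ := q ≫ pullback.fst (c'.inj k ≫ s) (p ≫ f)
      have hq : ∀ (pr : c₁.pt ⨯ c₁.pt ⟶ c₁.pt),
          q ≫ pullback.snd (c'.inj k ≫ s) (p ≫ f) ≫ p ≫ f ≫ r ≫ pr = q₁ ≫ e k ≫ pr := by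
        intro pr
        have h := congrArg (fun t => q ≫ t ≫ r ≫ pr)
          (pullback.condition (f := c'.inj k ≫ s) (g := p ≫ f))
        simp only [Category.assoc, reassoc_of% hs, Cofan.IsColimit.fac_assoc] at h
        simp only [q₁, Category.assoc]
        exact h.symm
      simp only [← Functor.map_comp_apply, ← op_comp, Category.assoc]
      rw [hq, hq]
      simp only [e, prod.lift_fst, prod.lift_snd, op_comp, Functor.map_comp_apply]
      rw [k.2.2]
    · intro H
      obtain ⟨f, hf⟩ := G.lift r (prod.lift a b) fun i p => by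
        refine ⟨c'.inj ⟨i, (p ≫ a, p ≫ b), H i p⟩ ≫ s, ?_⟩
        rw [Category.assoc, hs, Cofan.IsColimit.fac]
        exact prod.hom_ext (by simp [e, prod.lift_fst]) (by simp [e, prod.lift_snd])
      exact ⟨f, by simp [reassoc_of% hf, prod.lift_fst], by simp [reassoc_of% hf, prod.lift_snd]⟩
  have hR : SGA4.IsEquivRel (r ≫ prod.fst) (r ≫ prod.snd) := by
    intro T
    refine ⟨fun f f' h => (cancel_mono r).1 (prod.hom_ext ?_ ?_), fun a => ?_, ?_, ?_⟩
    · simpa using congrArg Prod.fst h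
    · simpa using congrArg Prod.snd h
    · exact (mem_iff a a).2 fun _ _ => rfl
    · exact fun h => (mem_iff _ _).2 fun i p => ((mem_iff _ _).1 h i p).symm
    · exact fun h h' => (mem_iff _ _).2 fun i p =>
        ((mem_iff _ _).1 h i p).trans ((mem_iff _ _).1 h' i p)
  obtain ⟨Q, π, hpb, hpo, -⟩ := G.hc _ _ _ _ hR
  let s' : Cocone D :=
    { pt := Q
      ι :=
        { app := fun i => c₁.inj i ≫ π
          naturality := fun i j φ => by
            simp only [Functor.const_obj_map, Category.comp_id]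
            rw [← Category.assoc]
            obtain ⟨f, hf₁, hf₂⟩ := (mem_iff (D.map φ ≫ c₁.inj j) (c₁.inj i)).2 fun l p => by
              simp only [op_comp, Functor.map_comp_apply, hx₁, hx]
            rw [← hf₁, ← hf₂]
            simpa using f ≫= hpo.w } }
  refine hP (fun i => c.ι.app i) (covers_ι_of_isColimit hc) x fun l a b p q eq => ?_
  have hπ : (p ≫ c₁.inj a) ≫ π = (q ≫ c₁.inj b) ≫ π := by
    have := eq =≫ hc.desc s'
    simp only [Category.assoc, IsColimit.fac] at this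
    simpa only [Category.assoc, s'] using this
  have := (mem_iff _ _).1 ⟨hpb.lift _ _ hπ, hpb.lift_fst _ _ hπ, hpb.lift_snd _ _ hπ⟩ l (𝟙 _)
  simpa only [Category.id_comp, op_comp, Functor.map_comp_apply, hx₁] using this

theorem SmallGlue.preservesLimits {P : Eᵒᵖ ⥤ Type w} (hP : G.SmallGlue P) :
    PreservesLimitsOfSize.{u, u} P := by
  refine ⟨fun {I} _ => ⟨fun {K} => ⟨fun {c} hc => ?_⟩⟩⟩
  have hcol : IsColimit (coconeLeftOpOfCone c) := isColimitCoconeLeftOpOfCone _ hc
  have key := fun (sec : (K ⋙ P).sections) => SmallGlue.existsUnique_of_isColimit hP hcol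
    (fun i => sec.1 i.unop) fun {i j} φ => sec.2 φ.unop
  refine (Types.isLimit_iff _).2 fun sec hsec => ?_
  obtain ⟨y, hy, hu⟩ := key ⟨sec, hsec⟩
  exact ⟨y, fun i => hy (op i), fun z hz => hu z fun i => hz i.unop⟩

theorem isSheaf_canonical_iff_preservesLimits (G : Axioms E) {E' : Type*} [Category.{w} E']
    (F : Eᵒᵖ ⥤ E') :
    Presheaf.IsSheaf (Sheaf.canonicalTopology E) F ↔ PreservesLimitsOfSize.{u, u} F := by
  constructor
  · intro h
    refine ⟨fun {I} _ => ⟨fun {K} => ⟨fun {c} hc => ?_⟩⟩⟩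
    refine ⟨coyonedaJointlyReflectsLimits (K ⋙ F) _ fun X => ?_⟩
    haveI := SmallGlue.preservesLimits ((smallGlue_iff_isSheaf (G := G)).2 (h X.unop))
    exact isLimitOfPreserves (F ⋙ coyoneda.obj X) hc
  · intro h X
    exact (smallGlue_iff_isSheaf (G := G)).1
      (smallGlue_of_preservesLimits (F ⋙ coyoneda.obj (op X)))

end Axioms

end Groth.Agent.GiraudLib
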