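/-
Categories of functors into a topos of sheaves are topoi.
-/
import Groth.Agent.GiraudLib.Site
import Groth.Agent.GiraudLib.Conservative
import Groth.Agent.ToposLib.Giraud
import Mathlib.CategoryTheory.Adjunction.Evaluation
import Mathlib.CategoryTheory.Limits.FunctorCategory.Basic

universe v u

open CategoryTheory CategoryTheory.Limits Opposite

namespace Groth.Agent.GiraudLib

variable {C : Type u} [SmallCategory C] {J : GrothendieckTopology C}

/-- Points at the sheafified representables detect isomorphisms of sheaves. -/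
theorem isIso_of_bijective_points {F G : Sheaf J (Type u)} (f : F ⟶ G)
    (h : ∀ (x : C) (t : (presheafToSheaf J (Type u)).obj (yoneda.obj x) ⟶ G),
      ∃! t', t' ≫ f = t) : IsIso f := by
  let e : ∀ (x : C) (K : Sheaf J (Type u)),
      ((presheafToSheaf J (Type u)).obj (yoneda.obj x) ⟶ K) ≃ K.obj.obj (op x) := fun x K =>
    ((sheafificationAdjunction J (Type u)).homEquiv _ K).trans yonedaEquiv
  have he : ∀ x t, e x G (t ≫ f) = f.hom.app (op x) (e x F t) := by
    intro x t
    change yonedaEquiv ((sheafificationAdjunction J (Type u)).homEquiv _ G (t ≫ f)) = _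
    rw [Adjunction.homEquiv_naturality_right]
    rfl
  haveI : ∀ x, IsIso (f.hom.app x) := fun x => by
    refine (isIso_iff_bijective _).2 ((Function.bijective_iff_existsUnique _).2 fun b => ?_)
    obtain ⟨t, ht, hu⟩ := h x.unop ((e x.unop G).symm b)
    refine ⟨e x.unop F t, (he x.unop t).symm.trans ((congrArg _ ht).trans
      ((e x.unop G).apply_symm_apply b)), fun a ha => ?_⟩
    rw [← (e x.unop F).apply_symm_apply a]
    refine congrArg _ (hu _ ((e x.unop G).injective ?_))
    rw [he, Equiv.apply_symm_apply, Equiv.apply_symm_apply]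
    exact ha
  haveI : IsIso f.hom := NatIso.isIso_of_isIso_app _
  haveI : IsIso ((sheafToPresheaf J (Type u)).map f) := ‹IsIso f.hom›
  exact isIso_of_reflects_iso f (sheafToPresheaf J (Type u))

variable (D : Type u) [SmallCategory D]

theorem isTopos_functor_sheaf : SGA4.IsTopos.{u + 1, u} (D ⥤ Sheaf J (Type u)) := by
  let S := Sheaf J (Type u)
  haveI : ∀ d : D, PreservesFiniteLimits ((evaluation D S).obj d) := fun d =>
    ⟨fun K _ _ => inferInstance⟩
  haveI : ∀ d : D, PreservesColimitsOfSize.{u, u} ((evaluation D S).obj d) := fun d =>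
    ⟨inferInstance⟩
  have hΦ : ∀ ⦃Y Z : D ⥤ S⦄ (f : Y ⟶ Z), (∀ d, IsIso (((evaluation D S).obj d).map f)) → IsIso f :=
    fun Y Z f h => haveI : ∀ d, IsIso (f.app d) := h; NatIso.isIso_of_isIso_app f
  refine Axioms.isTopos
    { hb := hasDisjointUniversalCoproducts_of_jointly (fun d : D => (evaluation D S).obj d) hΦ
        fun _ => ToposLib.hasDisjointUniversalCoproducts_sheaf
      hc := isEffectiveUniversalEquivRel_of_jointly (fun d : D => (evaluation D S).obj d) hΦ
        fun _ => ToposLib.isEffectiveUniversalEquivRel_sheaf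
      ι := D × C
      g := fun p => (evaluationLeftAdjoint S p.1).obj ((presheafToSheaf J (Type u)).obj
        (yoneda.obj p.2))
      detect := ?_ }
  intro Y Z f h
  refine hΦ f fun d => isIso_of_bijective_points _ fun x t => ?_
  let A := evaluationAdjunctionRight S d
  obtain ⟨t', ht, hu⟩ := h _ (ObjectProperty.ofObj_apply _ (d, x)) ((A.homEquiv _ _).symm t)
  refine ⟨A.homEquiv _ _ t', ?_, fun s hs => ?_⟩
  · dsimp only
    rw [← A.homEquiv_naturality_right, ht, Equiv.apply_symm_apply]
  · rw [← (A.homEquiv _ _).apply_symm_apply s]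
    refine congrArg _ (hu _ ?_)
    dsimp only
    exact (A.homEquiv_naturality_right_symm s f).symm.trans (congrArg _ hs)

theorem isTopos_functor {E : Type v} [Category.{u} E] (hE : SGA4.IsTopos E) :
    SGA4.IsTopos (D ⥤ E) := by
  obtain ⟨C', _, J', ⟨e⟩⟩ := hE
  obtain ⟨C'', i, J'', ⟨e'⟩⟩ := isTopos_functor_sheaf (J := J') D
  exact ⟨C'', i, J'', ⟨e.congrRight.trans e'⟩⟩

end Groth.Agent.GiraudLib
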