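/-
Representability and exact functors on a topos.
-/
import Groth.Agent.GiraudLib.Canonical
import Groth.Agent.GiraudLib.FunctorTopos
import Mathlib.CategoryTheory.Limits.Preserves.Opposites

universe w v' v u

open CategoryTheory CategoryTheory.Limits Opposite

namespace Groth.Agent.GiraudLib

variable {E : Type v} [Category.{u} E] [HasFiniteLimits E]

namespace Axioms

variable {G : Axioms E}

/-- A presheaf gluing along covers is representable. -/
theorem SmallGlue.isRepresentable {P : Eᵒᵖ ⥤ Type u} (hP : G.SmallGlue P) :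
    P.IsRepresentable := by
  let F₀ : G.Genᵒᵖ ⥤ Type u := (inducedFunctor G.g).op ⋙ P
  have hF₀ : Presheaf.IsSheaf G.topology F₀ := by
    rw [isSheaf_iff_isSheaf_of_type]
    intro Y S hS x hx
    obtain ⟨y, h₁, h₂⟩ := hP (G.fam S) hS (fun p => x p.2.1 p.2.2) fun i a b p q e =>
      hx (InducedCategory.homMk (X := G.gen i) p) (InducedCategory.homMk (X := G.gen i) q)
        a.2.2 b.2.2 (InducedCategory.hom_ext e)
    exact ⟨y, fun Z f hf => h₁ ⟨Z, f, hf⟩, fun m hm => h₂ m fun p => hm p.2.1 p.2.2⟩
  haveI := G.toSheaf_essSurj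
  let X₀ : E := G.toSheaf.objPreimage ⟨F₀, hF₀⟩
  let η : G.restrictedYoneda.obj X₀ ≅ F₀ :=
    (sheafToPresheaf G.topology (Type u)).mapIso (G.toSheaf.objObjPreimageIso ⟨F₀, hF₀⟩)
  let ev : ∀ i : G.ι, (G.g i ⟶ X₀) ≃ P.obj (op (G.g i)) := fun i =>
    (η.app (op (G.gen i))).toEquiv
  have hev : ∀ {i j : G.ι} (f : G.g j ⟶ G.g i) (p : G.g i ⟶ X₀),
      ev j (f ≫ p) = P.map f.op (ev i p) := fun {i j} f p =>
    ConcreteCategory.congr_hom
      (η.hom.naturality (InducedCategory.homMk (X := G.gen j) (Y := G.gen i) f).op) p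
  obtain ⟨u, hu, -⟩ := hP (fun p : Σ i, (G.g i ⟶ X₀) => p.2) (G.covers_points X₀)
    (fun p => ev p.1 p.2) fun i a b p q e => by
      rw [← hev, ← hev]
      exact congrArg (ev i) e
  have huniv : ∀ X : E, Function.Bijective (fun h : X ⟶ X₀ => P.map h.op u) := by
    intro X
    have hpt : ∀ (i : G.ι) (p : G.g i ⟶ X₀), P.map p.op u = ev i p := fun i p => hu ⟨i, p⟩
    refine ⟨fun h h' e => G.hom_ext h h' fun i p => (ev i).injective ?_, fun x => ?_⟩
    · rw [← hpt, ← hpt, op_comp, op_comp, Functor.map_comp_apply, Functor.map_comp_apply]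
      exact congrArg (P.map p.op) e
    · obtain ⟨h, h₁, -⟩ := G.glue (G.covers_points X) (Y := X₀)
        (fun p => (ev p.1).symm (P.map p.2.op x)) fun i a b p q e => by
          apply (ev i).injective
          rw [hev, hev, Equiv.apply_symm_apply, Equiv.apply_symm_apply,
            ← Functor.map_comp_apply, ← Functor.map_comp_apply, ← op_comp, ← op_comp]
          rw [e]
      refine ⟨h, SmallGlue.ext_points hP fun i p => ?_⟩
      rw [← Functor.map_comp_apply, ← op_comp, hpt, h₁ ⟨i, p⟩, Equiv.apply_symm_apply]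
  exact Functor.RepresentableBy.isRepresentable (Y := X₀)
    { homEquiv := fun {X} => Equiv.ofBijective _ (huniv X)
      homEquiv_comp := fun {X X'} f g => by
        change P.map (f ≫ g).op u = P.map f.op (P.map g.op u)
        rw [op_comp, Functor.map_comp_apply] }

variable (G)

include G in
/-- A cocontinuous functor out of a topos is a left adjoint. -/
theorem isLeftAdjoint_of_preservesColimits {E' : Type v'} [Category.{u} E'] (f : E ⥤ E')
    [PreservesColimitsOfSize.{u, u} f] : f.IsLeftAdjoint := by
  haveI := preservesLimitsOfSize_op f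
  exact Functor.isLeftAdjoint_of_rightAdjointObjIsDefined_eq_top (funext fun Y =>
    propext ⟨fun _ => trivial, fun _ => (Functor.rightAdjointObjIsDefined_iff f Y).2
      (SmallGlue.isRepresentable
        (smallGlue_of_preservesLimits (G := G) (f.op ⋙ yoneda.obj Y)))⟩)

include G in
/-- A functor out of a topos preserves colimits as soon as its composites with representables
glue along covers. -/
theorem preservesColimits_of_smallGlue {E' : Type v'} [Category.{u} E'] (f : E ⥤ E')
    (h : ∀ Y : E', G.SmallGlue (f.op ⋙ yoneda.obj Y)) : PreservesColimitsOfSize.{u, u} f := by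
  refine ⟨fun {I} _ => ⟨fun {K} => ⟨fun {c} hc => ⟨?_⟩⟩⟩⟩
  refine IsColimit.ofExistsUnique fun s => ?_
  obtain ⟨y, hy, hu⟩ := SmallGlue.existsUnique_of_isColimit (h s.pt) hc (fun i => s.ι.app i)
    fun φ => s.w φ
  exact ⟨y, hy, hu⟩

include G in
/-- A left exact functor preserving covers is cocontinuous. -/
theorem preservesColimits_of_covers {E' : Type v'} [Category.{u} E'] [HasFiniteLimits E']
    (G' : Axioms E') (f : E ⥤ E') [PreservesFiniteLimits f]
    (hf : ∀ {α : Type u} {B : E} {A : α → E} (g : ∀ a, A a ⟶ B), Covers g →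
      Covers fun a => f.map (g a)) : PreservesColimitsOfSize.{u, u} f := by
  refine G.preservesColimits_of_smallGlue f fun Y α B A g hg t ht => ?_
  refine G'.glue (hf g hg) t fun i a b p q e => ?_
  have hP := (IsPullback.of_hasPullback (g a) (g b)).map f
  have key : f.map (pullback.fst (g a) (g b)) ≫ t a = f.map (pullback.snd (g a) (g b)) ≫ t b := by
    refine (hf (fun p : Σ i, (G.g i ⟶ pullback (g a) (g b)) => p.2) (G.covers_points _)).hom_ext
      _ _ fun r => ?_
    rw [← Functor.map_comp_assoc, ← Functor.map_comp_assoc]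
    exact ht r.1 a b _ _ (by simp [pullback.condition])
  rw [← hP.lift_fst p q e, Category.assoc, key, ← Category.assoc, hP.lift_snd]

end Axioms

section Sheaf

variable {C : Type u} [SmallCategory C] (J : GrothendieckTopology C)

/-- A topos of sheaves satisfies Giraud's axioms. -/
noncomputable def sheafAxioms : Axioms (Sheaf J (Type u)) where
  hb := ToposLib.hasDisjointUniversalCoproducts_sheaf
  hc := ToposLib.isEffectiveUniversalEquivRel_sheaf
  ι := C
  g x := (presheafToSheaf J (Type u)).obj (yoneda.obj x)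
  detect := fun _ _ f h =>
    isIso_of_bijective_points f fun x => h _ (ObjectProperty.ofObj_apply _ x)

variable {J}

theorem covers_iff_isEpiFamily {α : Type w} {B : Sheaf J (Type u)} {A : α → Sheaf J (Type u)}
    (f : ∀ a, A a ⟶ B) : Covers f ↔ SGA4.IsEpiFamily f := by
  refine ⟨fun h Z a b hab => h.hom_ext a b hab, fun h B' m _ hm => ?_⟩
  haveI : Epi m := ⟨fun {Z} a b e => h Z a b fun i => by
    obtain ⟨t, ht⟩ := hm i
    rw [← ht, Category.assoc, Category.assoc, e]⟩
  exact isIso_of_mono_of_epi m

end Sheaf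

end Groth.Agent.GiraudLib
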