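/-
Recognising coproducts in a category satisfying Giraud's axioms.
-/
import Groth.Agent.GiraudLib.SheafTopos
import Mathlib.CategoryTheory.Limits.Shapes.Diagonal
import Mathlib.CategoryTheory.Sites.LocallyBijective

universe w v u

open CategoryTheory CategoryTheory.Limits Opposite

namespace Groth.Agent.GiraudLib

variable {E : Type v} [Category.{u} E] [HasFiniteLimits E]

theorem Axioms.isColimit_cofan_iff (G : Axioms E) {α : Type u} {A : α → E} {B : E}
    (f : ∀ a, A a ⟶ B) :
    Nonempty (IsColimit (Cofan.mk B f)) ↔ Covers f ∧ (∀ a, Mono (f a)) ∧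
      ∀ a b, a ≠ b → Nonempty (IsInitial (pullback (f a) (f b))) := by
  constructor
  · rintro ⟨hc⟩
    obtain ⟨-, -, hdis, -⟩ := G.hb α A
    exact ⟨covers_of_isColimit hc, fun a => hdis.mono_inj hc a,
      fun a b hab => hdis.nonempty_isInitial_of_ne hc hab _ (pullback.isLimit (f a) (f b))⟩
  · rintro ⟨hcov, hmono, hinit⟩
    have key : ∀ {Y : E} (t : ∀ a, A a ⟶ Y) i a b (p : G.g i ⟶ A a) (q : G.g i ⟶ A b),
        p ≫ f a = q ≫ f b → p ≫ t a = q ≫ t b := by
      intro Y t i a b p q e
      by_cases hab : a = b
      · subst hab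
        haveI := hmono a
        rw [(cancel_mono (f a)).1 e]
      · obtain ⟨hZ⟩ := hinit a b hab
        rw [← pullback.lift_fst p q e, Category.assoc, hZ.hom_ext (pullback.fst (f a) (f b) ≫ t a)
          (pullback.snd (f a) (f b) ≫ t b), ← Category.assoc, pullback.lift_snd]
    have hg := fun (s : Cofan A) => G.glue hcov s.inj (key s.inj)
    exact ⟨Cofan.IsColimit.mk _ (fun s => (hg s).choose) (fun s a => (hg s).choose_spec.1 a)
      (fun s m hm => (hg s).choose_spec.2 m hm)⟩

section Sheaf

variable {C : Type u} [SmallCategory C] {J : GrothendieckTopology C}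

theorem ofArrows_mem_iff_covers {X : C} {ι : Type u} (Y : ι → C) (s : ∀ i, Y i ⟶ X) :
    Sieve.ofArrows Y s ∈ J X ↔
      Covers fun i => (presheafToSheaf J (Type u)).map (yoneda.map (s i)) := by
  let S := Sieve.ofArrows Y s
  let a := presheafToSheaf J (Type u)
  constructor
  · intro hS
    refine (covers_iff_isEpiFamily _).2 fun Z u v h => ?_
    let A := sheafificationAdjunction J (Type u)
    let e := ((A.homEquiv (yoneda.obj X) Z).trans yonedaEquiv)
    refine e.injective (((isSheaf_iff_isSheaf_of_type J _).1 Z.property S hS).isSeparatedFor.ext ?_)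
    rintro W q ⟨_, g, _, ⟨i⟩, rfl⟩
    have nat : ∀ w : (presheafToSheaf J (Type u)).obj (yoneda.obj X) ⟶ Z,
        Z.obj.map (g ≫ s i).op (e w) =
          ((A.homEquiv (yoneda.obj W) Z).trans yonedaEquiv)
            (a.map (yoneda.map g) ≫ a.map (yoneda.map (s i)) ≫ w) := by
      intro w
      rw [← Functor.map_comp_assoc, ← Functor.map_comp]
      change Z.obj.map (g ≫ s i).op (yonedaEquiv (A.homEquiv _ Z w)) =
        yonedaEquiv (A.homEquiv _ Z (a.map (yoneda.map (g ≫ s i)) ≫ w))
      rw [A.homEquiv_naturality_left]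
      exact (yonedaEquiv_naturality _ _)
    exact (nat u).trans ((congrArg _ (congrArg _ (h i))).trans (nat v).symm)
  · intro hc
    haveI : Epi (a.map S.functorInclusion) := by
      refine ⟨fun {Z} u v h => (covers_iff_isEpiFamily _).1 hc Z u v fun i => ?_⟩
      have e : yoneda.map (s i) =
          yonedaEquiv.symm (⟨s i, Sieve.ofArrows_mk Y s i⟩ : S.functor.obj (op (Y i))) ≫
            S.functorInclusion := by
        ext W g
        rfl
      change a.map (yoneda.map (s i)) ≫ u = a.map (yoneda.map (s i)) ≫ v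
      rw [e, Functor.map_comp, Category.assoc, Category.assoc, h]
    haveI : Presheaf.IsLocallySurjective J S.functorInclusion :=
      (Presheaf.isLocallySurjective_presheafToSheaf_map_iff (J := J) _).1
        ((Sheaf.isLocallySurjective_iff_epi _).2 inferInstance)
    refine J.superset_covering ?_ (Presheaf.imageSieve_mem J S.functorInclusion (U := op X) (𝟙 X))
    intro W q ⟨⟨t, ht⟩, e⟩
    have : t = q := by
      refine Eq.trans e ?_
      simp
    exact this ▸ ht

end Sheaf

end Groth.Agent.GiraudLib
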