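/-
A category glued along a left exact accessible functor between topoi is a topos.
-/
import Groth.Agent.GiraudLib.FunctorTopos
import Mathlib.CategoryTheory.Limits.Comma
import Mathlib.CategoryTheory.Presentable.Presheaf
import Mathlib.CategoryTheory.Presentable.Type
import Mathlib.CategoryTheory.Sites.LocallyBijective

universe v u

open CategoryTheory CategoryTheory.Limits Opposite

namespace Groth.Agent.GiraudLib

section Colimit

variable {D : Type u} [SmallCategory D] {K : GrothendieckTopology D}

/-- Sections of a colimit of sheaves come locally from the terms of the diagram. -/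
theorem locally_mem_colimit {I : Type u} [SmallCategory I] {F : I ⥤ Sheaf K (Type u)}
    {c : Cocone F} (hc : IsColimit c) {d : D} (x : c.pt.obj.obj (op d)) :
    ∃ S ∈ K d, ∀ ⦃e : D⦄ (f : e ⟶ d), (S : Sieve d) f →
      ∃ (j : I) (y : (F.obj j).obj.obj (op e)), (c.ι.app j).hom.app (op e) y = c.pt.obj.map f.op x := by
  let i := sheafToPresheaf K (Type u)
  let φ : colimit (F ⋙ i) ⟶ i.obj c.pt := colimit.desc (F ⋙ i) (i.mapCocone c)
  haveI : Epi ((presheafToSheaf K (Type u)).map φ) := by
    refine ⟨fun {Z} u v h => ?_⟩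
    let A := sheafificationAdjunction K (Type u)
    rw [← cancel_epi (inv (A.counit.app c.pt))]
    refine hc.hom_ext fun j => ?_
    have h₁ := (presheafToSheaf K (Type u)).map (colimit.ι (F ⋙ i) j) ≫= h
    have e₁ : colimit.ι (F ⋙ i) j ≫ φ = i.map (c.ι.app j) :=
      colimit.ι_desc (i.mapCocone c) j
    rw [← Functor.map_comp_assoc, ← Functor.map_comp_assoc, e₁] at h₁
    have nat : c.ι.app j ≫ inv (A.counit.app c.pt) =
        inv (A.counit.app (F.obj j)) ≫
          (presheafToSheaf K (Type u)).map (i.map (c.ι.app j)) := by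
      rw [IsIso.comp_inv_eq, Category.assoc, IsIso.eq_inv_comp]
      exact (A.counit.naturality (c.ι.app j)).symm
    rw [reassoc_of% nat, reassoc_of% nat, h₁]
  haveI : Presheaf.IsLocallySurjective K φ :=
    (Presheaf.isLocallySurjective_presheafToSheaf_map_iff (J := K) φ).1
      ((Sheaf.isLocallySurjective_iff_epi _).2 inferInstance)
  refine ⟨Presheaf.imageSieve φ x, Presheaf.imageSieve_mem K φ x, fun e f hf => ?_⟩
  obtain ⟨z, hz⟩ := hf
  obtain ⟨j, y, hy⟩ := Types.jointly_surjective'
    (F := (F ⋙ i) ⋙ (evaluation Dᵒᵖ (Type u)).obj (op e))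
    ((colimitObjIsoColimitCompEvaluation (F ⋙ i) (op e)).hom z)
  refine ⟨j, y, Eq.trans ?_ hz⟩
  have h₁ : (colimit.ι (F ⋙ i) j).app (op e) y = z := by
    refine ((colimitObjIsoColimitCompEvaluation (F ⋙ i) (op e)).toEquiv.injective ?_)
    exact (ConcreteCategory.congr_hom
      (colimitObjIsoColimitCompEvaluation_ι_app_hom (F ⋙ i) j (op e)) y).trans hy
  rw [← h₁]
  exact (ConcreteCategory.congr_hom (NatTrans.congr_app
    (colimit.ι_desc (i.mapCocone c) j) (op e)) y).symm

end Colimit

variable {C D : Type u} [SmallCategory C] [SmallCategory D] {J : GrothendieckTopology C}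
  {K : GrothendieckTopology D}

/-- An accessible functor of sheaf categories is determined locally by a small set of objects. -/
theorem exists_small_local_set (ρ : Sheaf J (Type u) ⥤ Sheaf K (Type u))
    [ρ.IsAccessible.{u}] :
    ∃ (ι : Type u) (Q : ι → Sheaf J (Type u)), ∀ (X : Sheaf J (Type u)) (d : D)
      (x : (ρ.obj X).obj.obj (op d)), ∃ S ∈ K d, ∀ ⦃e : D⦄ (f : e ⟶ d), (S : Sieve d) f →
        ∃ (q : ι) (p : Q q ⟶ X) (y : (ρ.obj (Q q)).obj.obj (op e)),
          (ρ.map p).hom.app (op e) y = (ρ.obj X).obj.map f.op x := by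
  obtain ⟨κ, hκ, hρ⟩ := Functor.IsAccessible.exists_cardinal (F := ρ)
  haveI : IsCardinalLocallyPresentable (Cᵒᵖ ⥤ Type u) κ := inferInstance
  obtain ⟨P, hP, hgen⟩ := HasCardinalFilteredGenerator.exists_generator (Cᵒᵖ ⥤ Type u) κ
  obtain ⟨Q₀, hQ₀, -, hle⟩ := ObjectProperty.EssentiallySmall.exists_small_le.{u} P
  haveI : Small.{u} (Subtype Q₀) := hQ₀
  let a := presheafToSheaf J (Type u)
  refine ⟨Shrink.{u} (Subtype Q₀), fun q => a.obj ((equivShrink (Subtype Q₀)).symm q).1,
    fun X d x => ?_⟩
  obtain ⟨I, _, _, ⟨pres⟩⟩ := hgen.exists_colimitsOfShape ((sheafToPresheaf J (Type u)).obj X)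
  haveI : PreservesColimitsOfShape I ρ :=
    ρ.preservesColimitsOfShape_of_isCardinalAccessible κ I
  let A := sheafificationAdjunction J (Type u)
  let c := (Cocone.mk _ pres.ι)
  have h₁ : IsColimit (ρ.mapCocone (a.mapCocone c)) :=
    isColimitOfPreserves ρ (isColimitOfPreserves a pres.isColimit)
  let ε := ρ.map (A.counit.app X)
  obtain ⟨S, hS, H⟩ := locally_mem_colimit h₁ ((inv ε).hom.app (op d) x)
  refine ⟨S, hS, fun e f hf => ?_⟩
  obtain ⟨j, y, hy⟩ := H f hf
  obtain ⟨Z, hZ, ⟨iso⟩⟩ := hle _ (pres.prop_diag_obj j)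
  let q : Shrink.{u} (Subtype Q₀) := equivShrink _ ⟨Z, hZ⟩
  have hq : ((equivShrink (Subtype Q₀)).symm q).1 = Z := by simp [q]
  let e₀ : a.obj ((equivShrink (Subtype Q₀)).symm q).1 ≅ a.obj (pres.diag.obj j) :=
    a.mapIso (eqToIso hq ≪≫ iso.symm)
  let ι₀ : a.obj (pres.diag.obj j) ⟶ a.obj ((sheafToPresheaf J (Type u)).obj X) :=
    a.map (pres.ι.app j)
  refine ⟨q, e₀.hom ≫ ι₀ ≫ A.counit.app X, (ρ.map e₀.inv).hom.app (op e) y, ?_⟩
  have h₀ : ρ.map e₀.inv ≫ ρ.map (e₀.hom ≫ ι₀ ≫ A.counit.app X) = ρ.map ι₀ ≫ ε := by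
    rw [← ρ.map_comp, e₀.inv_hom_id_assoc, ρ.map_comp]
  have h₂ : (ρ.map e₀.inv).hom.app (op e) ≫ (ρ.map (e₀.hom ≫ ι₀ ≫ A.counit.app X)).hom.app (op e) =
      (ρ.map ι₀).hom.app (op e) ≫ ε.hom.app (op e) :=
    congrArg (fun t => t.hom.app (op e)) h₀
  refine (ConcreteCategory.congr_hom h₂ y).trans ?_
  refine (congrArg (ε.hom.app (op e)) hy).trans ?_
  refine (ConcreteCategory.congr_hom (ε.hom.naturality f.op) ((inv ε).hom.app (op d) x)).trans ?_
  refine congrArg ((ρ.obj X).obj.map f.op) ?_
  exact ConcreteCategory.congr_hom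
    (congrArg (fun t : ρ.obj X ⟶ ρ.obj X => t.hom.app (op d)) (IsIso.inv_hom_id ε)) x

section Glued

variable (ρ : Sheaf J (Type u) ⥤ Sheaf K (Type u)) [PreservesFiniteLimits ρ]

/-- The two projections of the glued category. -/
def gluedTarget (J : GrothendieckTopology C) (K : GrothendieckTopology D) : Bool → Type (u + 1)
  | true => Sheaf K (Type u)
  | false => Sheaf J (Type u)

instance gluedTargetCategory (b : Bool) : Category.{u} (gluedTarget J K b) :=
  match b with
  | true => inferInstanceAs (Category (Sheaf K (Type u)))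
  | false => inferInstanceAs (Category (Sheaf J (Type u)))

instance (b : Bool) : HasFiniteLimits (gluedTarget J K b) :=
  match b with
  | true => inferInstanceAs (HasFiniteLimits (Sheaf K (Type u)))
  | false => inferInstanceAs (HasFiniteLimits (Sheaf J (Type u)))

/-- The family of projections. -/
def gluedProj : ∀ b : Bool, Comma (𝟭 (Sheaf K (Type u))) ρ ⥤ gluedTarget J K b
  | true => Comma.fst _ _
  | false => Comma.snd _ _

theorem glued_hasFiniteLimits : HasFiniteLimits (Comma (𝟭 (Sheaf K (Type u))) ρ) :=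
  ⟨fun I _ _ => inferInstance⟩

theorem preservesFiniteLimits_fst : PreservesFiniteLimits (Comma.fst (𝟭 (Sheaf K (Type u))) ρ) :=
  ⟨fun I _ _ => ⟨fun {F} => preservesLimit_of_preserves_limit_cone
    (Comma.coneOfPreservesIsLimit F (limit.isLimit _) (limit.isLimit _))
    (limit.isLimit (F ⋙ Comma.fst _ _))⟩⟩

theorem preservesFiniteLimits_snd : PreservesFiniteLimits (Comma.snd (𝟭 (Sheaf K (Type u))) ρ) :=
  ⟨fun I _ _ => ⟨fun {F} => preservesLimit_of_preserves_limit_cone
    (Comma.coneOfPreservesIsLimit F (limit.isLimit _) (limit.isLimit _))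
    (limit.isLimit (F ⋙ Comma.snd _ _))⟩⟩

variable [ρ.IsAccessible.{u}]

theorem isTopos_glued : SGA4.IsTopos.{u + 1, u} (Comma (𝟭 (Sheaf K (Type u))) ρ) := by
  haveI := glued_hasFiniteLimits ρ
  haveI : HasColimitsOfSize.{u, u} (Comma (𝟭 (Sheaf K (Type u))) ρ) := Comma.hasColimitsOfSize
  haveI : ∀ b, PreservesFiniteLimits (gluedProj ρ b) := fun b => match b with
    | true => preservesFiniteLimits_fst ρ
    | false => preservesFiniteLimits_snd ρ
  haveI : ∀ b, PreservesColimitsOfSize.{u, u} (gluedProj ρ b) := fun b => match b with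
    | true => (⟨fun {I} _ => inferInstance⟩ :
        PreservesColimitsOfSize.{u, u} (Comma.fst (𝟭 (Sheaf K (Type u))) ρ))
    | false => (⟨fun {I} _ => inferInstance⟩ :
        PreservesColimitsOfSize.{u, u} (Comma.snd (𝟭 (Sheaf K (Type u))) ρ))
  have hΦ : ∀ ⦃Y Z : Comma (𝟭 (Sheaf K (Type u))) ρ⦄ (f : Y ⟶ Z),
      (∀ b, IsIso ((gluedProj ρ b).map f)) → IsIso f := fun Y Z f h => by
    haveI : IsIso f.left := h true
    haveI : IsIso f.right := h false
    have e : f = (Comma.isoMk (asIso f.left) (asIso f.right) f.w).hom := by ext <;> rfl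
    rw [e]
    infer_instance
  obtain ⟨ι, Q, hQ⟩ := exists_small_local_set ρ
  let aJ := presheafToSheaf J (Type u)
  let aK := presheafToSheaf K (Type u)
  let gen : (C ⊕ Σ (d : D) (q : ι), (aK.obj (yoneda.obj d) ⟶ ρ.obj (Q q))) →
      Comma (𝟭 (Sheaf K (Type u))) ρ
    | .inl x => { left := colimit (Functor.empty.{0} _), right := aJ.obj (yoneda.obj x),
                  hom := initialIsInitial.to _ }
    | .inr p => { left := aK.obj (yoneda.obj p.1), right := Q p.2.1, hom := p.2.2 }
  refine Axioms.isTopos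
    { hb := hasDisjointUniversalCoproducts_of_jointly (gluedProj ρ) hΦ fun b => match b with
        | true => ToposLib.hasDisjointUniversalCoproducts_sheaf (J := K)
        | false => ToposLib.hasDisjointUniversalCoproducts_sheaf (J := J)
      hc := isEffectiveUniversalEquivRel_of_jointly (gluedProj ρ) hΦ fun b => match b with
        | true => ToposLib.isEffectiveUniversalEquivRel_sheaf (J := K)
        | false => ToposLib.isEffectiveUniversalEquivRel_sheaf (J := J)
      ι := C ⊕ Σ (d : D) (q : ι), (aK.obj (yoneda.obj d) ⟶ ρ.obj (Q q))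
      g := gen
      detect := ?_ }
  intro Y Z f h
  haveI hr : IsIso f.right := isIso_of_bijective_points _ fun x t => by
    obtain ⟨t', ht, hu⟩ := h (gen (.inl x)) (ObjectProperty.ofObj_apply gen (.inl x))
      { left := initialIsInitial.to _, right := t, w := initialIsInitial.hom_ext _ _ }
    refine ⟨t'.right, congrArg CommaMorphism.right ht, fun s hs => ?_⟩
    exact congrArg CommaMorphism.right (hu
      { left := initialIsInitial.to _, right := s, w := initialIsInitial.hom_ext _ _ }
      (CommaMorphism.ext (initialIsInitial.hom_ext _ _) hs))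
  haveI hl : IsIso f.left := by
    let eK : ∀ (e : D) (F : Sheaf K (Type u)), (aK.obj (yoneda.obj e) ⟶ F) ≃ F.obj.obj (op e) :=
      fun e F => ((sheafificationAdjunction K (Type u)).homEquiv _ F).trans yonedaEquiv
    have he : ∀ (e : D) {F G : Sheaf K (Type u)} (g : F ⟶ G) (t : aK.obj (yoneda.obj e) ⟶ F),
        eK e G (t ≫ g) = g.hom.app (op e) (eK e F t) := by
      intro e F G g t
      change yonedaEquiv ((sheafificationAdjunction K (Type u)).homEquiv _ G (t ≫ g)) = _
      rw [Adjunction.homEquiv_naturality_right]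
      rfl
    have w : f.left ≫ Z.hom = Y.hom ≫ ρ.map f.right := f.w
    let W := inv (ρ.map f.right)
    have loc : ∀ {e : D} (b : Z.left.obj.obj (op e)) (q : ι) (p : Q q ⟶ Z.right)
        (y : (ρ.obj (Q q)).obj.obj (op e)),
        (ρ.map p).hom.app (op e) y = Z.hom.hom.app (op e) b →
        ∃! a : Y.left.obj.obj (op e), f.left.hom.app (op e) a = b := by
      intro e b q p y hy
      let G := gen (.inr ⟨e, q, (eK e _).symm y⟩)
      have hw : (eK e Z.left).symm b ≫ Z.hom = (eK e _).symm y ≫ ρ.map p := by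
        refine (eK e _).injective ?_
        rw [he, he, Equiv.apply_symm_apply, Equiv.apply_symm_apply, hy]
      obtain ⟨t', ht, hu⟩ := h G
        (ObjectProperty.ofObj_apply gen (.inr ⟨e, q, (eK e _).symm y⟩))
        { left := (eK e Z.left).symm b, right := p, w := hw }
      refine ⟨eK e Y.left t'.left, ?_, fun a ha => ?_⟩
      · change f.left.hom.app (op e) (eK e Y.left t'.left) = b
        rw [← he, ← (eK e Z.left).apply_symm_apply b]
        exact congrArg _ (congrArg CommaMorphism.left ht)
      · have hl' : (eK e Y.left).symm a ≫ f.left = (eK e Z.left).symm b := by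
          refine (eK e _).injective ?_
          rw [he, Equiv.apply_symm_apply, Equiv.apply_symm_apply]
          exact ha
        have hw' : (eK e Y.left).symm a ≫ Y.hom =
            (eK e _).symm y ≫ ρ.map (p ≫ inv f.right) := by
          rw [ρ.map_comp, Functor.map_inv, ← Category.assoc, IsIso.eq_comp_inv, Category.assoc,
            ← w, reassoc_of% hl', hw]
        have := hu { left := (eK e Y.left).symm a, right := p ≫ inv f.right, w := hw' }
          (CommaMorphism.ext hl' (by simp [G, gen]))
        rw [← congrArg CommaMorphism.left this, Equiv.apply_symm_apply]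
    have key : ∀ (d : D) (b : Z.left.obj.obj (op d)), ∃ S ∈ K d, ∀ ⦃e : D⦄ (g : e ⟶ d),
        (S : Sieve d) g → ∃! a : Y.left.obj.obj (op e),
          f.left.hom.app (op e) a = Z.left.obj.map g.op b := by
      intro d b
      obtain ⟨S, hS, H⟩ := hQ Z.right d (Z.hom.hom.app (op d) b)
      refine ⟨S, hS, fun e g hg => ?_⟩
      obtain ⟨q, p, y, hy⟩ := H g hg
      exact loc _ q p y (hy.trans (ConcreteCategory.congr_hom (Z.hom.hom.naturality g.op) b).symm)
    have natl : ∀ {d e : D} (g : e ⟶ d) (a : Y.left.obj.obj (op d)),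
        f.left.hom.app (op e) (Y.left.obj.map g.op a) =
          Z.left.obj.map g.op (f.left.hom.app (op d) a) := fun g a =>
      ConcreteCategory.congr_hom (f.left.hom.naturality g.op) a
    have hinj : ∀ d : D, Function.Injective (f.left.hom.app (op d)) := by
      intro d a a' haa
      obtain ⟨S, hS, H⟩ := key d (f.left.hom.app (op d) a)
      exact ((isSheaf_iff_isSheaf_of_type _ _).1 Y.left.property S hS).isSeparatedFor.ext
        fun e g hg => (H g hg).unique (natl g a) ((natl g a').trans (congrArg _ haa.symm))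
    refine isIso_of_bijective_points _ fun d t => ?_
    have hbij : Function.Bijective (f.left.hom.app (op d)) := by
      refine ⟨hinj d, fun b => ?_⟩
      obtain ⟨S, hS, H⟩ := key d b
      let x : Presieve.FamilyOfElements Y.left.obj S.arrows := fun e g hg => (H g hg).choose
      have hx : x.Compatible := by
        intro Y₁ Y₂ W₀ g₁ g₂ f₁ f₂ h₁ h₂ comm
        refine hinj W₀ ?_
        rw [natl, natl, (H f₁ h₁).choose_spec.1, (H f₂ h₂).choose_spec.1,
          ← Functor.map_comp_apply, ← Functor.map_comp_apply, ← op_comp, ← op_comp, comm]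
      obtain ⟨a, ha, -⟩ := (isSheaf_iff_isSheaf_of_type _ _).1 Y.left.property S hS x hx
      refine ⟨a, ((isSheaf_iff_isSheaf_of_type _ _).1 Z.left.property S hS).isSeparatedFor.ext
        fun e g hg => ?_⟩
      rw [← natl, ha g hg, (H g hg).choose_spec.1]
    obtain ⟨a, ha, hau⟩ := hbij.existsUnique (eK d _ t)
    refine ⟨(eK d _).symm a, (eK d _).injective (by rw [he, Equiv.apply_symm_apply, ha]),
      fun s hs => ?_⟩
    rw [← (eK d _).symm_apply_apply s]
    refine congrArg _ (hau _ ?_)
    exact (he d f.left s).symm.trans (congrArg _ hs)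
  exact hΦ f fun b => match b with
    | true => hl
    | false => hr

end Glued

end Groth.Agent.GiraudLib
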